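import Cfsg.Agent.H459.Iface
import Cfsg.Agent.S1950
import Cfsg.Agent.Lib.PSolvable
import Cfsg.Agent.SignalizersComponents.ComponentExists

/-!
# The cyclic case (helper459, S3829)

`cyc_false` : `x` inner of prime order `p`, cyclic Sylow `p`-subgroups and all pairs of conjugates generate solvable
groups: impossible in a non-abelian simple group (S1950, blocks of cyclic defect).
-/

set_option autoImplicit false
set_option linter.unusedSectionVars false

namespace Cfsg.Agent.H459.CycFalse

open Cfsg Subgroup Cfsg.Agent.H459.Rad Cfsg.Agent.H459.Iface Cfsg.Agent.SignalizersComponents.ComponentExists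

theorem mem_zpowers_of_cyclic {C : Type*} [Group C] [Finite C] [IsCyclic C] {p : ℕ} (hp : 0 < p) {a b : C}
    (ha : orderOf a = p) (hb : b ^ p = 1) : b ∈ zpowers a := by
  classical
  have : Fintype C := Fintype.ofFinite C
  have h1 : (Finset.univ.filter fun c : C => c ∈ zpowers a) ⊆ Finset.univ.filter fun c : C => c ^ p = 1 := by
    intro c hc
    rw [Finset.mem_filter] at hc ⊢
    refine ⟨Finset.mem_univ _, ?_⟩
    obtain ⟨n, hn⟩ := hc.2
    have hn' : a ^ n = c := hn
    rw [← hn', ← zpow_natCast, ← zpow_mul, mul_comm, zpow_mul, zpow_natCast, ← ha, pow_orderOf_eq_one, one_zpow]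
  have h2 : (Finset.univ.filter fun c : C => c ^ p = 1).card ≤ (Finset.univ.filter fun c : C => c ∈ zpowers a).card := by
    refine (IsCyclic.card_pow_eq_one_le hp).trans ?_
    rw [← Fintype.card_subtype, ← Nat.card_eq_fintype_card]
    have : Nat.card {c : C // c ∈ zpowers a} = orderOf a := Nat.card_zpowers a
    rw [this, ha]
  have h3 := Finset.eq_of_subset_of_card_le h1 h2
  have h4 : b ∈ Finset.univ.filter fun c : C => c ^ p = 1 := by simp [hb]
  rw [← h3, Finset.mem_filter] at h4
  exact h4.2

variable {K : Type*} [Group K] [Finite K]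

theorem center_eq_bot [IsSimpleGroup K] (hK : ¬ IsMulCommutative K) : center K = ⊥ := by
  rcases (inferInstance : (center K).Normal).eq_bot_or_eq_top with h | h
  · exact h
  · exfalso
    apply hK
    constructor
    constructor
    intro a b
    have := mem_center_iff.1 (h ▸ mem_top a : a ∈ center K) b
    exact this.symm

theorem conj_injective (hcen : center K = ⊥) : Function.Injective (MulAut.conj : K →* MulAut K) := by
  rw [← MonoidHom.ker_eq_bot_iff, eq_bot_iff, ← hcen]
  intro k hk
  rw [mem_center_iff]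
  intro g
  have h1 : MulAut.conj k g = g := by
    rw [MonoidHom.mem_ker] at hk
    rw [hk]
    rfl
  rw [MulAut.conj_apply] at h1
  calc g * k = (k * g * k⁻¹) * k := by rw [h1]
    _ = k * g := by group

/-- the cyclic case: Brauer-Dade (S1950) -/
theorem cyc_false [IsSimpleGroup K] (hK : ¬ IsMulCommutative K) {p : ℕ} [hp : Fact p.Prime] {x : MulAut K}
    (hx : orderOf x = p) (hP : PS 2 x) (h : Cyc p x) : False := by
  classical
  obtain ⟨⟨y, rfl⟩, hcyc⟩ := h
  have hcen := center_eq_bot hK
  have hinj := conj_injective hcen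
  have hy : orderOf y = p := by rw [← hx]; exact (orderOf_injective _ hinj y).symm
  -- elements of order `p` are conjugate to powers of `y`
  have hconj : ∀ u : K, orderOf u = p → ∃ g : K, u ∈ zpowers (g * y * g⁻¹) := by
    intro u hu
    have hpu : IsPGroup p (zpowers u) := IsPGroup.of_card (n := 1) (by rw [Nat.card_zpowers, hu, pow_one])
    have hpy : IsPGroup p (zpowers y) := IsPGroup.of_card (n := 1) (by rw [Nat.card_zpowers, hy, pow_one])
    obtain ⟨P, hPu⟩ := hpu.exists_le_sylow
    obtain ⟨R, hRy⟩ := hpy.exists_le_sylow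
    obtain ⟨g, hg⟩ := MulAction.exists_smul_eq K R P
    have h1 : g * y * g⁻¹ ∈ (P : Subgroup K) := by
      rw [← hg, Sylow.coe_subgroup_smul]
      exact ⟨y, hRy (mem_zpowers y), rfl⟩
    have hc := hcyc P
    have ho : orderOf (g * y * g⁻¹) = p := by
      rw [← hy]
      exact orderOf_injective (MulAut.conj g).toMonoidHom (MulAut.conj g).injective y
    have ho' : orderOf (⟨g * y * g⁻¹, h1⟩ : (P : Subgroup K)) = p := by rw [Subgroup.orderOf_mk, ho]
    have hu' : (⟨u, hPu (mem_zpowers u)⟩ : (P : Subgroup K)) ^ p = 1 := by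
      apply Subtype.ext
      show u ^ p = 1
      rw [← hu, pow_orderOf_eq_one]
    obtain ⟨n, hn⟩ := mem_zpowers_of_cyclic hp.out.pos ho' hu'
    exact ⟨g, n, congrArg Subtype.val hn⟩
  -- pairs of elements of order `p`
  have hpair : ∀ u v : K, orderOf u = p → orderOf v = p → IsPSolvable p ↥(closure ({u, v} : Set K)) := by
    intro u v hu hv
    obtain ⟨g, hg⟩ := hconj u hu
    obtain ⟨k, hk⟩ := hconj v hv
    have h1 := hP ![g, k]
    have h2 : (closure ({g * y * g⁻¹, k * y * k⁻¹} : Set K)).map (MulAut.conj : K →* MulAut K) =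
        closure (Set.range fun i => MulAut.conj ((![g, k] : Fin 2 → K) i) * MulAut.conj y *
          (MulAut.conj ((![g, k] : Fin 2 → K) i))⁻¹) := by
      rw [MonoidHom.map_closure]
      congr 1
      ext z
      simp only [Set.mem_image, Set.mem_insert_iff, Set.mem_singleton_iff, Set.mem_range, exists_eq_or_imp,
        exists_eq_left, map_mul, map_inv, Fin.exists_fin_two, Matrix.cons_val_zero, Matrix.cons_val_one]
    rw [← h2] at h1
    have h3 : Group.IsSolvable ↥(closure ({g * y * g⁻¹, k * y * k⁻¹} : Set K)) :=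
      Group.isSolvable_of_isSolvable_injective
        (f := ((closure ({g * y * g⁻¹, k * y * k⁻¹} : Set K)).equivMapOfInjective _ hinj).toMonoidHom)
        ((closure ({g * y * g⁻¹, k * y * k⁻¹} : Set K)).equivMapOfInjective _ hinj).injective
    have h4 : closure ({u, v} : Set K) ≤ closure ({g * y * g⁻¹, k * y * k⁻¹} : Set K) := by
      rw [closure_le]
      have e1 : zpowers (g * y * g⁻¹) ≤ closure ({g * y * g⁻¹, k * y * k⁻¹} : Set K) :=
        zpowers_le.2 (Subgroup.subset_closure (Set.mem_insert _ _))
      have e2 : zpowers (k * y * k⁻¹) ≤ closure ({g * y * g⁻¹, k * y * k⁻¹} : Set K) :=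
        zpowers_le.2 (Subgroup.subset_closure (Set.mem_insert_of_mem _ (Set.mem_singleton _)))
      rintro z (rfl | rfl)
      · exact e1 hg
      · exact e2 hk
    have h5 : Group.IsSolvable ↥(closure ({u, v} : Set K)) := isSolvable_of_le h4 h3
    exact Cfsg.Agent.Lib.PSolvable.IsPSolvable_of_solvable p
  have hne : Nonempty (Sylow p K) := inferInstance
  obtain ⟨P⟩ := hne
  have h1 : IsPSolvable p K := (Cfsg.Agent.S1950.result P (hcyc P)).2 hpair
  obtain ⟨L, hL, h2, -, h3⟩ := Cfsg.Agent.Lib.PSolvable.sep_of_pSolvable p h1 ⊥ ⊤ inferInstance inferInstance bot_lt_top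
  have hLt : L = ⊤ := (hL.eq_bot_or_eq_top).resolve_left h2.ne'
  subst hLt
  rw [Subgroup.relIndex_bot_left, Subgroup.card_top] at h3
  have hpK : p ∣ Nat.card K := hy ▸ orderOf_dvd_natCard y
  rcases h3 with ⟨m, hm⟩ | hc
  · have h4 : Group.IsNilpotent K := (IsPGroup.of_card hm).isNilpotent
    have h5 : Nontrivial K := inferInstance
    have h6 : center K ≠ ⊥ := by
      have := (IsPGroup.of_card hm).center_nontrivial
      exact (Subgroup.nontrivial_iff_ne_bot _).1 this
    exact h6 hcen
  · have h4 : p ∣ 1 := by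
      rw [← Nat.Coprime.gcd_eq_one hc]
      exact Nat.dvd_gcd hpK dvd_rfl
    exact hp.out.one_lt.ne' (Nat.dvd_one.1 h4)

end Cfsg.Agent.H459.CycFalse
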