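import Mathlib
import Cfsg.Agent.H459.Gallery

/-!
# Solvable minimal parabolic subgroups (helper459, S3829, S3832)

`B < M` with `M` solvable and `B` maximal in `M`, transitive on `M / B ∖ {B}`.

* `exists_V` : a regular abelian normal section `V / (V ∩ B)`, invariant under all automorphisms preserving `M`;
* `exists_pow` : `|M : B|` is a power of a prime;
* `fixed_of_num` : an automorphism of prime order `p` fixing `B` fixes all points of `M / B` if no proper divisor of
  `|M : B|` is congruent to `|M : B|` modulo `p`;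
* `isCyclic_of_prime` : if `|M : B|` is prime, a subgroup of `B` acting faithfully on `M / B` is cyclic;
* `num_two` : `2 ^ a + 1 = ℓ ^ m` implies `m = 1` or `2 ^ a + 1 = 9`.
-/

set_option autoImplicit false
set_option linter.unusedSectionVars false

namespace Cfsg.Agent.H459.SolNode

open Cfsg Subgroup Cfsg.Agent.H459.Rad Cfsg.Agent.H459.Gallery
open scoped commutatorElement

/-! ### Numbers -/

theorem num_two {a l m : ℕ} (hl : l.Prime) (ha : a ≠ 0) (h : 2 ^ a + 1 = l ^ m) : m = 1 ∨ (l = 3 ∧ m = 2) := by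
  have hm0 : m ≠ 0 := by
    rintro rfl
    rw [pow_zero] at h
    have := Nat.pow_pos (n := a) (show 0 < 2 by norm_num)
    omega
  have hlodd : Odd l := by
    rw [← Nat.not_even_iff_odd]
    intro hle
    have h1 : Even (l ^ m) := hle.pow_of_ne_zero hm0
    rw [← h] at h1
    have h2 : Even (2 ^ a) := (even_two).pow_of_ne_zero ha
    have h3 := (Nat.even_add_one).1 h1
    exact h3 h2
  rcases Nat.even_or_odd m with ⟨k, hk⟩ | hmo
  · right
    have hk0 : k ≠ 0 := by omega
    have h2 : 2 ^ a = (l ^ k - 1) * (l ^ k + 1) := by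
      have h3 : l ^ m = l ^ k * l ^ k := by rw [hk, pow_add]
      have h4 : 1 ≤ l ^ k := Nat.one_le_pow _ _ hl.pos
      obtain ⟨t, ht⟩ : ∃ t, l ^ k = t + 1 := ⟨l ^ k - 1, by omega⟩
      rw [h3, ht] at h
      rw [ht]
      have : t + 1 - 1 = t := by omega
      rw [this]
      nlinarith
    obtain ⟨i, -, hi⟩ := (Nat.dvd_prime_pow Nat.prime_two).1 (Dvd.intro _ h2.symm)
    obtain ⟨j, -, hj⟩ := (Nat.dvd_prime_pow Nat.prime_two).1 (Dvd.intro_left _ h2.symm)
    have h4 : 2 ≤ l ^ k := le_trans hl.two_le (Nat.le_self_pow hk0 l)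
    have h5 : 2 ^ i + 2 = 2 ^ j := by omega
    have hi1 : i ≠ 0 := by
      rintro rfl
      have : Odd (l ^ k) := hlodd.pow
      rw [pow_zero] at hi
      have h6 : l ^ k = 2 := by omega
      rw [h6] at this
      exact absurd this (by decide)
    have hj2 : 2 ≤ j := by
      by_contra hcon
      have h6 : j ≤ 1 := by omega
      have h7 : (2 : ℕ) ^ j ≤ 2 ^ 1 := Nat.pow_le_pow_right (by norm_num) h6
      have := Nat.pow_pos (n := i) (show 0 < 2 by norm_num)
      omega
    have hi2 : i = 1 := by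
      by_contra hcon
      have h6 : 2 ≤ i := by omega
      have h7 : 4 ∣ 2 ^ i := by
        have := Nat.pow_dvd_pow 2 h6
        simpa using this
      have h8 : 4 ∣ 2 ^ j := by
        have := Nat.pow_dvd_pow 2 hj2
        simpa using this
      omega
    rw [hi2] at hi
    have h6 : l ^ k = 3 := by omega
    have h7 : l ∣ 3 := by rw [← h6]; exact dvd_pow_self l hk0
    have h8 : l = 3 := (Nat.prime_dvd_prime_iff_eq hl Nat.prime_three).1 h7
    rw [h8] at h6
    have h9 : k = 1 := by
      rcases Nat.lt_or_ge k 2 with h | h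
      · omega
      · have : (3 : ℕ) ^ 2 ≤ 3 ^ k := Nat.pow_le_pow_right (by norm_num) h
        omega
    exact ⟨h8, by omega⟩
  · left
    by_contra hm1
    -- `(l ^ m - 1) = (l - 1) * sum`
    have h1 : (∑ i ∈ Finset.range m, l ^ i) * (l - 1) = l ^ m - 1 := by
      have := Nat.geomSum_eq hl.two_le m
      rw [this]
      exact Nat.div_mul_cancel (by simpa using Nat.sub_dvd_pow_sub_pow l 1 m)
    have h2 : (∑ i ∈ Finset.range m, l ^ i) ∣ 2 ^ a := by
      have h3 : 2 ^ a = l ^ m - 1 := Nat.eq_sub_of_add_eq h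
      rw [h3, ← h1]
      exact dvd_mul_right _ _
    obtain ⟨i, -, hi⟩ := (Nat.dvd_prime_pow Nat.prime_two).1 h2
    have hodd : Odd (∑ i ∈ Finset.range m, l ^ i) := by
      have h3 : ∀ k, (∑ i ∈ Finset.range k, l ^ i) % 2 = k % 2 := by
        intro k
        induction k with
        | zero => simp
        | succ k ih =>
          rw [Finset.sum_range_succ, Nat.add_mod, ih, Nat.odd_iff.1 hlodd.pow]
          omega
      rw [Nat.odd_iff, h3]
      exact Nat.odd_iff.1 hmo
    have hi0 : i = 0 := by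
      by_contra hi0
      rw [hi] at hodd
      exact absurd ((even_two).pow_of_ne_zero hi0) (Nat.not_even_iff_odd.2 hodd)
    rw [hi0, pow_zero] at hi
    have h4 : 1 + l ≤ ∑ i ∈ Finset.range m, l ^ i := by
      have h5 : ({0, 1} : Finset ℕ) ⊆ Finset.range m := by
        intro z hz
        rw [Finset.mem_insert, Finset.mem_singleton] at hz
        rw [Finset.mem_range]
        omega
      have h6 := Finset.sum_le_sum_of_subset (f := fun i => l ^ i) h5
      rw [Finset.sum_pair (by norm_num)] at h6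
      simpa using h6
    have := hl.pos
    omega

variable {K : Type*} [Group K] [Finite K]

/-! ### The abelian section -/

/-- the derived series as subgroups of `K` -/
def dser (M : Subgroup K) : ℕ → Subgroup K
  | 0 => M
  | i + 1 => ⁅dser M i, dser M i⁆

theorem dser_eq (M : Subgroup K) (i : ℕ) : dser M i = (derivedSeries M i).map M.subtype := by
  induction i with
  | zero =>
    rw [derivedSeries_zero, ← MonoidHom.range_eq_map, Subgroup.range_subtype]
    rfl
  | succ i ih =>
    rw [derivedSeries_succ, Subgroup.map_commutator, ← ih]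
    rfl

theorem exists_dser_bot {M : Subgroup K} (h : Group.IsSolvable M) : ∃ n, dser M n = ⊥ := by
  obtain ⟨n, hn⟩ := (Group.isSolvable_def M).1 h
  exact ⟨n, by rw [dser_eq, hn, Subgroup.map_bot]⟩

theorem iv_commutator {y : MulAut K} {A : Subgroup K} (h : Iv y A) : Iv y ⁅A, A⁆ := by
  have h1 : ⁅A, A⁆ ≤ ⁅A, A⁆.comap y.toMonoidHom := by
    rw [Subgroup.commutator_le]
    intro a ha b hb
    rw [mem_comap, map_commutatorElement]
    exact Subgroup.commutator_mem_commutator (h a ha) (h b hb)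
  exact h1

theorem iv_dser {y : MulAut K} {M : Subgroup K} (h : Iv y M) (i : ℕ) : Iv y (dser M i) := by
  induction i with
  | zero => exact h
  | succ i ih => exact iv_commutator ih

theorem iv_conj {M : Subgroup K} {m : K} (hm : m ∈ M) : Iv (MulAut.conj m) M := fun a ha => by
  rw [MulAut.conj_apply]
  exact mul_mem (mul_mem hm ha) (inv_mem hm)

theorem dser_le (M : Subgroup K) (i : ℕ) : dser M i ≤ M := by
  rw [dser_eq]
  exact Subgroup.map_subtype_le _

/-- `V / (V ∩ B)` is a regular abelian normal section -/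
structure Sec (B M V : Subgroup K) : Prop where
  le : V ≤ M
  conj : ∀ m ∈ M, ∀ v ∈ V, m * v * m⁻¹ ∈ V
  iv : ∀ y : MulAut K, Iv y M → Iv y V
  nle : ¬ V ≤ B
  conj_inf : ∀ m ∈ M, ∀ w ∈ V, w ∈ B → m * w * m⁻¹ ∈ B
  comm : ∀ v ∈ V, ∀ w ∈ V, v * w * v⁻¹ * w⁻¹ ∈ B
  mul : ∀ m ∈ M, ∃ v ∈ V, ∃ b ∈ B, m = v * b

theorem exists_V {B M : Subgroup K} (hB : B ≤ M) (hne : B ≠ M) (hmax : ∀ L, B < L → L ≤ M → L = M)
    (hsol : Group.IsSolvable M) : ∃ V, Sec B M V := by
  classical
  have hex : ∃ n, dser M n ≤ B := by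
    obtain ⟨n, hn⟩ := exists_dser_bot hsol
    exact ⟨n, by rw [hn]; exact bot_le⟩
  obtain ⟨k, hk⟩ : ∃ k, Nat.find hex = k + 1 := by
    rcases Nat.eq_zero_or_pos (Nat.find hex) with h | h
    · exfalso
      have h1 := Nat.find_spec hex
      rw [h] at h1
      exact hne (le_antisymm hB h1)
    · exact ⟨Nat.find hex - 1, by omega⟩
  set V := dser M k with hV
  have hVB : ¬ V ≤ B := Nat.find_min hex (by omega)
  have hcomm : ⁅V, V⁆ ≤ B := by
    have h1 := Nat.find_spec hex
    rw [hk] at h1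
    exact h1
  have hle : V ≤ M := dser_le M k
  have hcj : ∀ m ∈ M, ∀ v ∈ V, m * v * m⁻¹ ∈ V := fun m hm v hv => iv_dser (iv_conj hm) k v hv
  have hcm : ∀ v ∈ V, ∀ w ∈ V, v * w * v⁻¹ * w⁻¹ ∈ B := fun v hv w hw =>
    hcomm (Subgroup.commutator_mem_commutator hv hw)
  have hmul : ∀ m ∈ M, ∃ v ∈ V, ∃ b ∈ B, m = v * b := by
    have h1 : V ⊔ B = M := by
      refine hmax _ (lt_of_le_of_ne le_sup_right fun h => hVB ?_) (sup_le hle hB)
      rw [h]; exact le_sup_left
    have h2 : B ≤ normalizer (V : Set K) := by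
      intro b hb
      rw [Subgroup.mem_normalizer_iff_map_conj_eq]
      refine Subgroup.eq_of_le_of_card_ge ?_ (le_of_eq (Subgroup.card_map_of_injective
        (K := V) (MulAut.conj b).injective).symm)
      rintro _ ⟨a, ha, rfl⟩
      exact hcj b (hB hb) a ha
    intro m hm
    have h3 : m ∈ ((V ⊔ B : Subgroup K) : Set K) := by rw [h1]; exact hm
    rw [Subgroup.coe_mul_of_right_le_normalizer_left _ _ h2, Set.mem_mul] at h3
    obtain ⟨v, hv, b, hb, e⟩ := h3
    exact ⟨v, hv, b, hb, e.symm⟩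
  refine ⟨V, hle, hcj, fun y hy => iv_dser hy k, hVB, ?_, hcm, hmul⟩
  intro m hm w hw hwB
  obtain ⟨v, hv, b, hb, rfl⟩ := hmul m hm
  have h1 : b * w * b⁻¹ ∈ V := hcj b (hB hb) w hw
  have h2 : b * w * b⁻¹ ∈ B := mul_mem (mul_mem hb hwB) (inv_mem hb)
  have h3 : v * b * w * (v * b)⁻¹ = (v * (b * w * b⁻¹) * v⁻¹ * (b * w * b⁻¹)⁻¹) * (b * w * b⁻¹) := by group
  rw [h3]
  exact mul_mem (hcm v hv _ h1) h2

section Sec

variable {B M V : Subgroup K} (hB : B ≤ M) (S : Sec B M V)
include S

theorem Sec.relIndex : B.relIndex V = B.relIndex M := relIndex_eq_of_mul S.le S.mul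

theorem Sec.normal : (B.subgroupOf V).Normal := by
  refine ⟨fun w hw v => ?_⟩
  rw [mem_subgroupOf] at hw ⊢
  exact S.conj_inf v (S.le v.2) w w.2 hw

/-- `|M : B|` is a prime power -/
theorem exists_pow (htr : ∀ m ∈ M, m ∉ B → ∀ m' ∈ M, m' ∉ B → ∃ u ∈ B, ∃ b ∈ B, m' = u * m * b) (hB : B ≤ M) :
    ∃ l m : ℕ, l.Prime ∧ B.relIndex M = l ^ m := by
  have hN := S.normal
  set Q := V ⧸ B.subgroupOf V with hQ
  have hcard : Nat.card Q = B.relIndex M := by rw [← S.relIndex]; rfl
  have hQ1 : Nat.card Q ≠ 1 := by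
    intro h
    apply S.nle
    have h1 : B.subgroupOf V = ⊤ := Subgroup.index_eq_one.1 h
    exact Subgroup.subgroupOf_eq_top.1 h1
  obtain ⟨l, hl, hdvd⟩ := Nat.exists_prime_and_dvd hQ1
  have hlF := Fact.mk hl
  obtain ⟨z, hz⟩ := exists_prime_orderOf_dvd_card' (G := Q) l hdvd
  obtain ⟨v, rfl⟩ := QuotientGroup.mk_surjective z
  have hvB : (v : K) ∉ B := by
    intro h
    have h1 : (QuotientGroup.mk v : Q) = 1 := (QuotientGroup.eq_one_iff v).2 h
    rw [h1, orderOf_one] at hz
    exact hl.one_lt.ne hz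
  have hvl : (v : K) ^ l ∈ B := by
    have h1 : (QuotientGroup.mk v : Q) ^ l = 1 := by rw [← hz]; exact pow_orderOf_eq_one _
    rw [← QuotientGroup.mk_pow, QuotientGroup.eq_one_iff] at h1
    exact h1
  have hpg : IsPGroup l Q := by
    intro z
    refine ⟨1, ?_⟩
    rw [pow_one]
    obtain ⟨w, rfl⟩ := QuotientGroup.mk_surjective z
    by_cases hw : (w : K) ∈ B
    · have h1 : (QuotientGroup.mk w : Q) = 1 := (QuotientGroup.eq_one_iff w).2 hw
      rw [h1, one_pow]
    · obtain ⟨u, hu, b, hb, h1⟩ := htr v (S.le v.2) hvB w (S.le w.2) hw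
      have h2 : (u * v * u⁻¹ : K) ∈ V := S.conj u (hB hu) v v.2
      set w' : V := ⟨u * v * u⁻¹, h2⟩ with hw'
      have h3 : (QuotientGroup.mk w : Q) = QuotientGroup.mk w' := by
        rw [eq_comm, QuotientGroup.eq, mem_subgroupOf]
        show ((w' : K))⁻¹ * (w : K) ∈ B
        rw [h1, hw']
        have : (u * (v : K) * u⁻¹)⁻¹ * (u * v * b) = u * b := by group
        rw [this]
        exact mul_mem hu hb
      rw [h3, ← QuotientGroup.mk_pow, QuotientGroup.eq_one_iff, mem_subgroupOf]
      show ((w' : K)) ^ l ∈ B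
      rw [hw', conj_pow]
      exact S.conj_inf u (hB hu) _ (pow_mem v.2 l) hvl
  obtain ⟨m, hm⟩ := IsPGroup.iff_card.1 hpg
  exact ⟨l, m, hl, by rw [← hcard, hm]⟩

/-- automorphisms fixing `B` act trivially -/
theorem fixed_of_num {p : ℕ} [Fact p.Prime] {y : MulAut K} (hyB : Iv y B) (hyM : Iv y M) (hyp : y ^ p = 1)
    (hnum : ∀ d, d ∣ B.relIndex M → B.relIndex M ≡ d [MOD p] → d = B.relIndex M) :
    ∀ k ∈ M, k⁻¹ * y k ∈ B := by
  classical
  have hN := S.normal
  have hyV : Iv y V := S.iv y hyM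
  set Q := V ⧸ B.subgroupOf V with hQ
  have hcard : Nat.card Q = B.relIndex M := by rw [← S.relIndex]; rfl
  -- the fixed points
  let C : Subgroup V :=
    { carrier := {v | (v : K)⁻¹ * y v ∈ B}
      one_mem' := by simp
      mul_mem' := by
        intro v w hv hw
        show ((v * w : V) : K)⁻¹ * y ((v * w : V) : K) ∈ B
        rw [Subgroup.coe_mul, map_mul]
        have hv' : ((v : K))⁻¹ * y v ∈ B := hv
        have hw' : ((w : K))⁻¹ * y w ∈ B := hw
        have hvV : (v : K)⁻¹ * y v ∈ V := mul_mem (inv_mem v.2) (hyV v v.2)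
        have e : ((v : K) * w)⁻¹ * (y v * y w) = ((w : K)⁻¹ * ((v : K)⁻¹ * y v) * ((w : K)⁻¹)⁻¹) * ((w : K)⁻¹ * y w) := by
          group
        rw [e]
        exact mul_mem (S.conj_inf _ (inv_mem (S.le w.2)) _ hvV hv') hw'
      inv_mem' := by
        intro v hv
        show (((v⁻¹ : V) : K))⁻¹ * y ((v⁻¹ : V) : K) ∈ B
        rw [Subgroup.coe_inv, map_inv, inv_inv]
        have hv' : ((v : K))⁻¹ * y v ∈ B := hv
        have hvV : (v : K)⁻¹ * y v ∈ V := mul_mem (inv_mem v.2) (hyV v v.2)
        have e : (v : K) * (y v)⁻¹ = v * ((v : K)⁻¹ * y v)⁻¹ * (v : K)⁻¹ := by group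
        rw [e]
        exact S.conj_inf _ (S.le v.2) _ (inv_mem hvV) (inv_mem hv') }
  have hWC : B.subgroupOf V ≤ C := by
    intro w hw
    rw [mem_subgroupOf] at hw
    show ((w : K))⁻¹ * y w ∈ B
    exact mul_mem (inv_mem hw) (hyB _ hw)
  -- the permutation
  let yV : V ≃* V :=
    { toFun := fun v => ⟨y v, hyV v v.2⟩
      invFun := fun v => ⟨y⁻¹ v, by
        have h1 := hyV.map_eq
        have h2 : (v : K) ∈ V.map y.toMonoidHom := by rw [h1]; exact v.2
        obtain ⟨w, hw, h3⟩ := h2
        have h4 : y⁻¹ (v : K) = w := by rw [← h3]; exact y.symm_apply_apply w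
        rw [h4]; exact hw⟩
      left_inv := fun v => Subtype.ext (y.symm_apply_apply _)
      right_inv := fun v => Subtype.ext (y.apply_symm_apply _)
      map_mul' := fun v w => Subtype.ext (map_mul y _ _) }
  have hWle : B.subgroupOf V ≤ (B.subgroupOf V).comap yV.toMonoidHom := fun w hw => by
    rw [mem_comap, mem_subgroupOf]
    exact hyB _ (mem_subgroupOf.1 hw)
  let f : Q →* Q := QuotientGroup.map _ _ yV.toMonoidHom hWle
  have hf : ∀ v : V, f (QuotientGroup.mk v) = QuotientGroup.mk (yV v) := fun v => rfl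
  have hfpow : ∀ (n : ℕ) (v : V) (w : V), (w : K) = (y ^ n) v → (f^[n]) (QuotientGroup.mk v) = QuotientGroup.mk w := by
    intro n
    induction n with
    | zero =>
      intro v w hw
      have : w = v := Subtype.ext hw
      rw [this]
      rfl
    | succ n ih =>
      intro v w hw
      rw [Function.iterate_succ_apply, hf]
      refine ih _ _ ?_
      rw [hw, pow_succ, MulAut.mul_apply]
      rfl
  let F : Function.End Q := (f : Q → Q)
  have hFpow : ∀ n (z : Q), (F ^ n) z = (f^[n]) z := by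
    intro n
    induction n with
    | zero => intro z; rfl
    | succ n ih =>
      intro z
      rw [pow_succ, Function.iterate_succ_apply]
      exact ih (f z)
  have hF : F ^ p ^ 1 = 1 := by
    rw [pow_one]
    funext z
    obtain ⟨v, rfl⟩ := QuotientGroup.mk_surjective z
    rw [hFpow, hfpow p v v (by rw [hyp]; rfl)]
    rfl
  have hfQ : Finite Q := inferInstance
  have : Fintype Q := Fintype.ofFinite Q
  have hmod := Equiv.Perm.card_fixedPoints_modEq (f := F) (p := p) (n := 1) hF
  -- the fixed points are `C / W`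
  have hfix : Nat.card (Function.fixedPoints F) = (B.subgroupOf V).relIndex C := by
    have h1 : (Function.fixedPoints F : Set Q) = ((C.map (QuotientGroup.mk' (B.subgroupOf V)) : Subgroup Q) : Set Q) := by
      ext z
      obtain ⟨v, rfl⟩ := QuotientGroup.mk_surjective z
      constructor
      · intro h
        have h2 : (QuotientGroup.mk (yV v) : Q) = QuotientGroup.mk v := Function.mem_fixedPoints.1 h
        refine ⟨v, ?_, rfl⟩
        rw [eq_comm, QuotientGroup.eq, mem_subgroupOf] at h2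
        exact h2
      · rintro ⟨w, hw, h2⟩
        have h2' : (QuotientGroup.mk w : Q) = QuotientGroup.mk v := h2
        refine Function.mem_fixedPoints.2 ?_
        show f (QuotientGroup.mk v) = QuotientGroup.mk v
        rw [← h2', hf, eq_comm, QuotientGroup.eq, mem_subgroupOf]
        exact hw
    rw [h1]
    show Nat.card ↥(C.map (QuotientGroup.mk' (B.subgroupOf V))) = _
    rw [Subgroup.relIndex, Subgroup.index]
    symm
    refine Nat.card_congr ?_
    have e := QuotientGroup.quotientKerEquivRange ((QuotientGroup.mk' (B.subgroupOf V)).comp C.subtype)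
    have hk : ((QuotientGroup.mk' (B.subgroupOf V)).comp C.subtype).ker = (B.subgroupOf V).subgroupOf C := by
      rw [← MonoidHom.comap_ker, QuotientGroup.ker_mk']
      rfl
    have hr : ((QuotientGroup.mk' (B.subgroupOf V)).comp C.subtype).range = C.map (QuotientGroup.mk' (B.subgroupOf V)) := by
      rw [MonoidHom.range_comp, Subgroup.range_subtype]
    rw [← hr, ← hk]
    exact e.toEquiv
  have hdvd : (B.subgroupOf V).relIndex C ∣ B.relIndex M := by
    rw [← S.relIndex]
    have h1 : (B.subgroupOf V).relIndex C * C.index = (B.subgroupOf V).index := Subgroup.relIndex_mul_index hWC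
    exact Dvd.intro _ h1
  have hd := hnum _ hdvd (by
    rw [← hfix, ← hcard, Nat.card_eq_fintype_card, Nat.card_eq_fintype_card]
    convert hmod)
  have hC : C = ⊤ := by
    have h1 : (B.subgroupOf V).relIndex C * C.index = (B.subgroupOf V).index := Subgroup.relIndex_mul_index hWC
    have h2 : (B.subgroupOf V).index = B.relIndex M := S.relIndex
    rw [hd, h2] at h1
    have h3 : B.relIndex M ≠ 0 := by
      rw [← h2]
      exact Subgroup.index_ne_zero_of_finite
    exact Subgroup.index_eq_one.1 (Nat.eq_of_mul_eq_mul_left (Nat.pos_of_ne_zero h3) (by rw [h1, mul_one]))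
  intro k hk
  obtain ⟨v, hv, b, hb, rfl⟩ := S.mul k hk
  have h1 : (⟨v, hv⟩ : V) ∈ C := by rw [hC]; exact mem_top _
  have h2 : v⁻¹ * y v ∈ B := h1
  rw [map_mul]
  have e : (v * b)⁻¹ * (y v * y b) = b⁻¹ * (v⁻¹ * y v) * y b := by group
  rw [e]
  exact mul_mem (mul_mem (inv_mem hb) h2) (hyB b hb)

/-- if `|M : B|` is prime, faithful subgroups are cyclic -/
theorem isCyclic_of_prime (hB : B ≤ M) (hpr : (B.relIndex M).Prime) {X : Subgroup K} (hX : X ≤ B)
    (hfaith : ∀ x ∈ X, (∀ m ∈ M, m⁻¹ * x * m ∈ B) → x = 1) : IsCyclic X := by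
  classical
  have hN := S.normal
  set Q := V ⧸ B.subgroupOf V with hQ
  have hcard : Nat.card Q = B.relIndex M := by rw [← S.relIndex]; rfl
  have hF := Fact.mk hpr
  have hcyc : IsCyclic Q := isCyclic_of_prime_card hcard
  -- the action
  let cV : X → V →* V := fun x =>
    { toFun := fun v => ⟨x * v * (x : K)⁻¹, S.conj x (hB (hX x.2)) v v.2⟩
      map_one' := Subtype.ext (by simp)
      map_mul' := fun v w => Subtype.ext (by
        show (x : K) * ((v : K) * w) * (x : K)⁻¹ = (x * v * (x : K)⁻¹) * (x * w * (x : K)⁻¹)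
        group) }
  have hle : ∀ x, B.subgroupOf V ≤ (B.subgroupOf V).comap (cV x) := fun x w hw => by
    rw [mem_comap, mem_subgroupOf]
    exact S.conj_inf x (hB (hX x.2)) w w.2 (mem_subgroupOf.1 hw)
  let g : X → Q →* Q := fun x => QuotientGroup.map _ _ (cV x) (hle x)
  have hg : ∀ x (v : V), g x (QuotientGroup.mk v) = QuotientGroup.mk (cV x v) := fun _ _ => rfl
  have hg1 : g 1 = MonoidHom.id Q := by
    refine MonoidHom.ext fun v => ?_
    obtain ⟨w, rfl⟩ := QuotientGroup.mk_surjective v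
    rw [hg]
    have : cV 1 w = w := Subtype.ext (by show (1 : K) * w * (1 : K)⁻¹ = w; simp)
    rw [this]
    rfl
  have hgm : ∀ x x', g (x * x') = (g x).comp (g x') := by
    intro x x'
    refine MonoidHom.ext fun v => ?_
    obtain ⟨w, rfl⟩ := QuotientGroup.mk_surjective v
    rw [MonoidHom.comp_apply, hg, hg, hg]
    congr 1
    refine Subtype.ext ?_
    show ((x : K) * x') * w * ((x : K) * x')⁻¹ = x * (x' * w * (x' : K)⁻¹) * (x : K)⁻¹
    group
  let φ : X →* MulAut Q :=
    { toFun := fun x => MonoidHom.toMulEquiv (g x) (g x⁻¹) (by rw [← hgm, inv_mul_cancel, hg1])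
        (by rw [← hgm, mul_inv_cancel, hg1])
      map_one' := by
        ext v
        show g 1 v = v
        rw [hg1]
        rfl
      map_mul' := fun x x' => by
        ext v
        show g (x * x') v = g x (g x' v)
        rw [hgm]
        rfl }
  have hφ : ∀ x v, φ x v = g x v := fun _ _ => rfl
  have hinj : Function.Injective φ := by
    rw [injective_iff_map_eq_one]
    intro x hx
    refine Subtype.ext (hfaith x x.2 fun m hm => ?_)
    obtain ⟨v, hv, b, hb, rfl⟩ := S.mul m hm
    have h1 : g x (QuotientGroup.mk ⟨v, hv⟩) = QuotientGroup.mk ⟨v, hv⟩ := by rw [← hφ, hx]; rfl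
    rw [hg, eq_comm, QuotientGroup.eq, mem_subgroupOf] at h1
    have h2 : v⁻¹ * ((x : K) * v * (x : K)⁻¹) ∈ B := h1
    have e : (v * b)⁻¹ * (x : K) * (v * b) = b⁻¹ * ((v⁻¹ * ((x : K) * v * (x : K)⁻¹)) * x) * b := by group
    rw [e]
    exact mul_mem (mul_mem (inv_mem hb) (mul_mem h2 (hX x.2))) hb
  have e := IsCyclic.mulAutMulEquiv Q
  have hpQ : Fact (Nat.card Q).Prime := ⟨by rw [hcard]; exact hpr⟩
  have hc : IsCyclic (ZMod (Nat.card Q))ˣ := inferInstance
  exact isCyclic_of_injective (e.toMonoidHom.comp φ) (e.injective.comp hinj)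

end Sec

end Cfsg.Agent.H459.SolNode
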