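import Mathlib
import Cfsg.Agent.H459.SolNode
import Cfsg.Agent.FixBN.Split

/-!
# Radical automorphisms fixing a parabolic subgroup (helper459, S3829, S3832)

`K` a finite group with an irreducible split (B, N)-pair of rank at least two, `x : MulAut K` with `RC x`.

* `radIn_sup` : `rad(P_L) B = P_{L'}`, and no element of `L'` is adjacent to an element of `L`;
* `descend` : the step from `P_J` to `P_{J ∖ {s}}`, `P_J` solvable and `p ∤ |P_s : B|`;
* `exists_borel'`, `nonell` : `x` of prime order `p ≥ 5` fixing a proper parabolic subgroup is trivial.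
-/

set_option autoImplicit false
set_option linter.unusedSectionVars false

namespace Cfsg.Agent.H459.NonEll

open Cfsg Subgroup Cfsg.Agent.SignalizersComponents.ComponentExists Cfsg.Agent.H459.Rad Cfsg.Agent.H459.Gallery Cfsg.Agent.H459.SolNode
open Cfsg.Agent.Schreier.BNSch Cfsg.Agent.FixBN
open scoped commutatorElement

variable {K : Type*} [Group K] [Finite K] (P : BNPair K)

theorem closure_le_parabolic (J : Set K) {s : K} (hs : s ∈ J) : s ∈ P.parabolic J :=
  (le_sup_right : closure J ≤ _) (subset_closure hs)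

/-- the radical of a parabolic subgroup -/
theorem radIn_sup (hBs : Group.IsSolvable P.B) {L : Set K} (hL : L ⊆ P.S) :
    ∃ L', L' ⊆ L ∧ radIn (P.parabolic L) ⊔ P.B = P.parabolic L' ∧ Group.IsSolvable (P.parabolic L') ∧
      ∀ s ∈ L', ∀ t ∈ L, s ≠ t → s * t * s⁻¹ * t⁻¹ ∈ P.B := by
  set M := P.parabolic L with hM
  have hBM : P.B ≤ M := B_le_parabolic P _
  obtain ⟨L', hLS, hLe⟩ := Cfsg.Agent.S0311.result P (radIn M ⊔ P.B) le_sup_right
  have hLM : radIn M ⊔ P.B ≤ M := sup_le (radIn_le M) hBM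
  have hLL : L' ⊆ L := by
    rw [← parabolic_le_iff P hLS hL, ← hLe]
    exact hLM
  have hsol : Group.IsSolvable (P.parabolic L') := by
    have h4 := isSolvable_sup (radIn_le M) hBM (fun g hg a ha => radIn_conj_mem hg ha) (radIn_solvable M) hBs
    rwa [hLe] at h4
  refine ⟨L', hLL, hLe, hsol, fun s hs t ht hst => ?_⟩
  by_cases htL : t ∈ L'
  · refine comm_of_solvable P (hLS hs) (hLS htL) hst (isSolvable_of_le (parabolic_mono P ?_) hsol)
    rintro y (rfl | rfl)
    · exact hs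
    · exact htL
  · -- the (B, N)-pair of `M`
    set Q : BNPair M := Cfsg.Agent.LieRecognition.BNCox.sub P L hL with hQ
    have hQB : Q.B = P.B.subgroupOf M := rfl
    have hQS : Q.S = {x : M | (x : K) ∈ L} := rfl
    have hRn : ((radIn M).subgroupOf M).Normal := by
      refine ⟨fun n hn g => ?_⟩
      rw [mem_subgroupOf] at hn ⊢
      exact radIn_conj_mem g.2 hn
    set J' : Set M := {x : M | (x : K) ∈ L'} with hJ'
    have hJS : J' ⊆ Q.S := fun x hx => hLL hx
    have hJe : (radIn M).subgroupOf M ⊔ Q.B = Q.parabolic J' := by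
      rw [hQB, ← Subgroup.subgroupOf_sup (radIn_le M) hBM, hLe]
      apply Subgroup.map_injective M.subtype_injective
      rw [Subgroup.subgroupOf_map_subtype, inf_eq_left.2 (parabolic_mono P hLL)]
      show _ = (Q.B ⊔ closure J').map M.subtype
      rw [Subgroup.map_sup, hQB, Subgroup.subgroupOf_map_subtype, inf_eq_left.2 hBM, MonoidHom.map_closure]
      have e : M.subtype '' J' = L' := by
        ext z
        constructor
        · rintro ⟨w, hw, rfl⟩
          exact hw
        · intro hz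
          exact ⟨⟨z, closure_le_parabolic P L (hLL hz)⟩, hz, rfl⟩
      rw [e]
      rfl
    have hsM : s ∈ M := closure_le_parabolic P L (hLL hs)
    have htM : t ∈ M := closure_le_parabolic P L ht
    have h1 := Cfsg.Agent.S0319.commute_of_normal Q ((radIn M).subgroupOf M) hJS hJe
      (s := ⟨s, hsM⟩) (s' := ⟨t, htM⟩) hs ⟨ht, htL⟩
    exact h1

/-- a radical automorphism fixing the parabolic subgroup `P_L` fixes `P_{L'}` -/
theorem iv_of_sub {y : MulAut K} (hy : RC y) {L L' : Set K} (hne : P.parabolic L ≠ ⊤) (hL : L' ⊆ L)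
    (hyL : Iv y (P.parabolic L)) (hr : radIn (P.parabolic L) ≤ P.parabolic L') : Iv y (P.parabolic L') := by
  intro b hb
  have h3 := hy _ hne hyL b (parabolic_mono P hL hb)
  have h4 : y b = b * (b⁻¹ * y b) := by group
  rw [h4]
  exact mul_mem hb (hr h3)

theorem parabolic_ne_top {L : Set K} (hL : L ⊆ P.S) (hne : L ≠ P.S) : P.parabolic L ≠ ⊤ := by
  intro hMt
  have h1 : P.parabolic P.S ≤ P.parabolic L := by rw [hMt]; exact le_top
  rw [parabolic_le_iff P le_rfl hL] at h1
  exact hne (Set.Subset.antisymm hL h1)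

theorem iv_parabolic {z : MulAut K} (hB : Iv z P.B) (hs : ∀ s ∈ P.S, Iv z (P.parabolic {s})) {L : Set K}
    (hL : L ⊆ P.S) : Iv z (P.parabolic L) := by
  have h1 : P.parabolic L ≤ (P.parabolic L).comap z.toMonoidHom := by
    refine sup_le ?_ ?_
    · intro b hb
      exact B_le_parabolic P _ (hB b hb)
    · rw [closure_le]
      intro t ht
      exact parabolic_mono P (Set.singleton_subset_iff.2 ht) (hs t (hL ht) t (mem_parabolic_self P t))
  exact h1

/-- **One step down.** -/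
theorem descend {p : ℕ} [Fact p.Prime] {y : MulAut K} (hyp : y ^ p = 1) {J : Set K} (hJS : J ⊆ P.S) {s : K}
    (hsJ : s ∈ J) (hg : Iv y (P.parabolic J)) {m : K} (hm : m ∈ P.parabolic J)
    (hzs : ∀ L, L ⊆ P.S → Iv (MulAut.conj m * y) (P.parabolic L))
    (hcomm : ∀ t ∈ J, t ≠ s → s * t * s⁻¹ * t⁻¹ ∈ P.B)
    (hidx : ¬ p ∣ P.B.relIndex (P.parabolic {s})) : ∃ k ∈ P.parabolic J, Iv (cx y k) (P.parabolic (J \ {s})) := by
  classical
  set M := P.parabolic J with hM
  have hsS : s ∈ P.S := hJS hsJ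
  set J' := J \ {s} with hJ'
  have hJ'S : J' ⊆ P.S := Set.sdiff_subset.trans hJS
  have hsJ' : s ∉ J' := fun h => h.2 rfl
  have hins : insert s J' = J := by
    rw [hJ', Set.insert_sdiff_singleton, Set.insert_eq_of_mem hsJ]
  have hcomm' : ∀ t ∈ J', s * t * s⁻¹ * t⁻¹ ∈ P.B := fun t ht => hcomm t ht.1 fun h => ht.2 h
  set P' := P.parabolic J' with hP'
  have hP'M : P' ≤ M := parabolic_mono P Set.sdiff_subset
  have hnorm : normalizer (P' : Set K) = P' := Cfsg.Agent.S0312.result P hJ'S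
  have hidx' : P'.relIndex M = P.B.relIndex (P.parabolic {s}) := by
    have := relIndex_insert P hJ'S hsS hsJ' hcomm'
    rwa [hins] at this
  have hnd : ¬ p ∣ P'.relIndex M := by
    rw [hidx']
    exact hidx
  set z := MulAut.conj m * y with hz
  have hzP' : Iv z P' := hzs J' hJ'S
  -- the set of conjugates
  let X : Set (Subgroup K) := {A | ∃ k ∈ M, A = P'.map (MulAut.conj k).toMonoidHom}
  have hyP' : ∃ k ∈ M, P'.map y.toMonoidHom = P'.map (MulAut.conj k).toMonoidHom := by
    refine ⟨m⁻¹, inv_mem hm, ?_⟩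
    have h1 : y = MulAut.conj m⁻¹ * z := by rw [hz, ← mul_assoc, ← map_mul, inv_mul_cancel, map_one, one_mul]
    conv_lhs => rw [h1]
    have h2 : (MulAut.conj m⁻¹ * z).toMonoidHom = (MulAut.conj m⁻¹).toMonoidHom.comp z.toMonoidHom := rfl
    rw [h2, ← Subgroup.map_map, hzP'.map_eq]
  have hcomp : ∀ (f : MulAut K) (k : K) (A : Subgroup K), (A.map (MulAut.conj k).toMonoidHom).map f.toMonoidHom =
      (A.map f.toMonoidHom).map (MulAut.conj (f k)).toMonoidHom := by
    intro f k A
    rw [Subgroup.map_map, Subgroup.map_map]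
    congr 1
    ext a
    simp
  have hXy : ∀ A ∈ X, A.map y.toMonoidHom ∈ X := by
    rintro _ ⟨k, hk, rfl⟩
    obtain ⟨l, hl, h1⟩ := hyP'
    refine ⟨y k * l, mul_mem (hg k hk) hl, ?_⟩
    rw [hcomp, h1, Subgroup.map_map]
    congr 1
    ext a
    simp [mul_assoc]
  let π : X → X := fun A => ⟨A.1.map y.toMonoidHom, hXy A.1 A.2⟩
  have hπ : Function.Injective π := by
    intro A B hAB
    have h1 : A.1.map y.toMonoidHom = B.1.map y.toMonoidHom := congrArg Subtype.val hAB
    exact Subtype.ext (Subgroup.map_injective y.injective h1)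
  have hXfin : Finite X := inferInstance
  let σ : Equiv.Perm X := Equiv.ofBijective π (Finite.injective_iff_bijective.1 hπ)
  have hσpow : ∀ n (A : X), (((σ ^ n) A : X) : Subgroup K) = (A : Subgroup K).map (y ^ n).toMonoidHom := by
    intro n
    induction n with
    | zero =>
      intro A
      rw [pow_zero, pow_zero]
      exact (Subgroup.map_id _).symm
    | succ n ih =>
      intro A
      rw [pow_succ', Equiv.Perm.mul_apply, pow_succ']
      show (((σ ^ n) A : X) : Subgroup K).map y.toMonoidHom = _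
      rw [ih, Subgroup.map_map]
      rfl
  have hσp : σ ^ p ^ 1 = 1 := by
    rw [pow_one]
    apply Equiv.ext
    intro A
    apply Subtype.ext
    rw [hσpow, hyp]
    exact Subgroup.map_id _
  have hcardX : Nat.card X = P'.relIndex M := by
    unfold Subgroup.relIndex Subgroup.index
    symm
    refine Nat.card_congr (Equiv.ofBijective (fun q : M ⧸ P'.subgroupOf M => Quotient.liftOn' q
      (fun m : M => (⟨P'.map (MulAut.conj (m : K)).toMonoidHom, m, m.2, rfl⟩ : X)) ?_) ⟨?_, ?_⟩)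
    · intro a b hab
      rw [QuotientGroup.leftRel_apply, mem_subgroupOf] at hab
      apply Subtype.ext
      show P'.map (MulAut.conj (a : K)).toMonoidHom = P'.map (MulAut.conj (b : K)).toMonoidHom
      have h1 : P'.map (MulAut.conj (((a⁻¹ * b : M) : K))).toMonoidHom = P' :=
        Subgroup.mem_normalizer_iff_map_conj_eq.1 (le_normalizer hab)
      conv_lhs => rw [← h1]
      rw [Subgroup.map_map]
      congr 1
      ext k
      simp [mul_assoc]
    · intro q q'
      refine Quotient.inductionOn₂' q q' fun a b hab => ?_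
      have h1 : P'.map (MulAut.conj (a : K)).toMonoidHom = P'.map (MulAut.conj (b : K)).toMonoidHom :=
        congrArg Subtype.val hab
      refine Quotient.sound' (QuotientGroup.leftRel_apply.2 ?_)
      rw [mem_subgroupOf, ← hnorm, Subgroup.mem_normalizer_iff_map_conj_eq]
      have h2 : (P'.map (MulAut.conj (b : K)).toMonoidHom).map (MulAut.conj ((a : K)⁻¹)).toMonoidHom =
          P'.map (MulAut.conj (((a⁻¹ * b : M) : K))).toMonoidHom := by
        rw [Subgroup.map_map]
        congr 1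
        ext k
        simp [mul_assoc]
      have h3 : P'.map (MulAut.conj (((a⁻¹ * b : M) : K))).toMonoidHom = P' := by
        rw [← h2, ← h1, Subgroup.map_map]
        conv_rhs => rw [← Subgroup.map_id P']
        congr 1
        ext k
        simp [mul_assoc]
      exact h3
    · rintro ⟨A, k, hk, rfl⟩
      exact ⟨Quotient.mk'' ⟨k, hk⟩, rfl⟩
  have : Fintype X := Fintype.ofFinite X
  obtain ⟨⟨A, k, hk, rfl⟩, hA⟩ := Equiv.Perm.exists_fixed_point_of_prime (p := p) (n := 1)
    (by rw [← Nat.card_eq_fintype_card, hcardX]; exact hnd) hσp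
  have hA' : (P'.map (MulAut.conj k).toMonoidHom).map y.toMonoidHom = P'.map (MulAut.conj k).toMonoidHom :=
    congrArg Subtype.val hA
  refine ⟨k, hk, ?_⟩
  intro a ha
  have h1 : y (k * a * k⁻¹) ∈ P'.map (MulAut.conj k).toMonoidHom := by
    rw [← hA']
    exact ⟨k * a * k⁻¹, ⟨a, ha, rfl⟩, rfl⟩
  obtain ⟨c, hc, h2⟩ := h1
  rw [cx_apply]
  have h3 : k * c * k⁻¹ = y (k * a * k⁻¹) := h2
  rw [← h3]
  have : k⁻¹ * (k * c * k⁻¹) * k = c := by group
  rwa [this]

/-- the connectedness of the diagram -/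
def Irr : Prop := ∀ J, J ⊆ P.S → J.Nonempty → J ≠ P.S → ∃ s ∈ J, ∃ t ∈ P.S, t ∉ J ∧ s * t * s⁻¹ * t⁻¹ ∉ P.B

/-- automorphisms fixing `B` with an inner `p`-th power fix the minimal parabolic subgroups -/
def Rig (p : ℕ) : Prop :=
  ∀ z : MulAut K, Iv z P.B → (∃ b ∈ P.B, z ^ p = MulAut.conj b) → ∀ s ∈ P.S, Iv z (P.parabolic {s})

/-- in a star with solvable leaves some leaf has index prime to `p` -/
def Star (p : ℕ) : Prop :=
  ∀ t ∈ P.S, (∃ s ∈ P.S, s ≠ t) →
    (∀ s ∈ P.S, s ≠ t → s * t * s⁻¹ * t⁻¹ ∉ P.B ∧ Group.IsSolvable (P.parabolic {s})) →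
      ∃ s ∈ P.S, s ≠ t ∧ ¬ p ∣ P.B.relIndex (P.parabolic {s})

/-- **From an invariant proper parabolic subgroup to an invariant Borel subgroup.** -/
theorem exists_borel' {r p : ℕ} [Fact r.Prime] [Fact p.Prime] (U : Sylow r K)
    (hU : normalizer ((U : Subgroup K) : Set K) = P.B) {x : MulAut K} (h : RC x) (hxp : x ^ p = 1)
    (hBs : Group.IsSolvable P.B) (hirr : Irr P) (hrig : Rig P p) (hstar : Star P p)
    {J₀ : Set K} (hJ₀ : J₀ ⊆ P.S) (hne : J₀ ≠ P.S) {g₀ : K} (hg₀ : Iv (cx x g₀) (P.parabolic J₀)) :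
    ∃ g, Iv (cx x g) P.B := by
  classical
  have hfin : Finite K := inferInstance
  obtain ⟨J, hJ⟩ := Set.exists_min_image {J : Set K | J ⊆ P.S ∧ J ≠ P.S ∧ ∃ g, Iv (cx x g) (P.parabolic J)}
    Set.ncard (Set.toFinite _) ⟨J₀, hJ₀, hne, g₀, hg₀⟩
  obtain ⟨⟨hJS, hJne, g, hg⟩, hmin⟩ := hJ
  by_cases hJ0 : J = ∅
  · rw [hJ0, parabolic_empty] at hg
    exact ⟨g, hg⟩
  exfalso
  have hJn : J.Nonempty := Set.nonempty_iff_ne_empty.2 hJ0
  set y := cx x g with hy
  have hyR : RC y := h.cx g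
  have hyp : y ^ p = 1 := by
    have e : y = (MulAut.conj g)⁻¹ * x * ((MulAut.conj g)⁻¹)⁻¹ := by rw [inv_inv]; rfl
    rw [e, conj_pow, hxp, mul_one, mul_inv_cancel]
  set M := P.parabolic J with hM
  have hBM : P.B ≤ M := B_le_parabolic P _
  have hMt : M ≠ ⊤ := parabolic_ne_top P hJS hJne
  -- `M` is solvable
  have hMsol : Group.IsSolvable M := by
    obtain ⟨L, hLJ, hLe, hLsol, -⟩ := radIn_sup P hBs hJS
    have h1 : Iv y (P.parabolic L) := iv_of_sub P hyR hMt hLJ hg (by rw [← hLe]; exact le_sup_left)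
    have h2 := hmin L ⟨hLJ.trans hJS, fun h => hJne (Set.Subset.antisymm hJS (h ▸ hLJ)), g, h1⟩
    have h3 : L = J := Set.eq_of_subset_of_ncard_le hLJ h2 (Set.toFinite _)
    rwa [h3] at hLsol
  have hcommJ : ∀ s ∈ J, ∀ t ∈ J, s ≠ t → s * t * s⁻¹ * t⁻¹ ∈ P.B := by
    intro s hs t ht hst
    refine comm_of_solvable P (hJS hs) (hJS ht) hst (isSolvable_of_le (parabolic_mono P ?_) hMsol)
    rintro y (rfl | rfl)
    · exact hs
    · exact ht
  -- `y` maps `P'` to a conjugate
  obtain ⟨m, hm, hmB⟩ := exists_conj_fix P U hU hBM hg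
  set z := MulAut.conj m * y with hz
  have hzp : ∃ b ∈ P.B, z ^ p = MulAut.conj b := by
    obtain ⟨k, hk, hk'⟩ := conj_mul_pow m y hm hg p
    rw [hyp, mul_one] at hk'
    refine ⟨k, ?_, hk'⟩
    have h1 : ∀ n, Iv (z ^ n) P.B := by
      intro n
      induction n with
      | zero => intro a ha; exact ha
      | succ n ih =>
        intro a ha
        rw [pow_succ, MulAut.mul_apply]
        exact ih _ (hmB a ha)
    have h2 : Iv (MulAut.conj k) P.B := by rw [← hk']; exact h1 p
    have h3 : k ∈ normalizer (P.B : Set K) := by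
      rw [Subgroup.mem_normalizer_iff_map_conj_eq]
      exact h2.map_eq
    have h4 : normalizer (P.B : Set K) = P.B := by
      have := Cfsg.Agent.S0312.result P (J := ∅) (Set.empty_subset _)
      rwa [parabolic_empty] at this
    rwa [h4] at h3
  have hzs : ∀ L, L ⊆ P.S → Iv z (P.parabolic L) := fun L hL => iv_parabolic P hmB (hrig z hmB hzp) hL
  have hyL : ∀ L, J ⊆ L → L ⊆ P.S → Iv y (P.parabolic L) := by
    intro L hJL hL
    have h1 : y = MulAut.conj m⁻¹ * z := by rw [hz, ← mul_assoc, ← map_mul, inv_mul_cancel, map_one, one_mul]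
    rw [h1]
    exact iv_conj_mul (inv_mem (parabolic_mono P hJL hm)) (hzs L hL)
  -- a neighbour
  obtain ⟨s, hsJ, t, htS, htJ, hst⟩ := hirr J hJS hJn hJne
  have hsS := hJS hsJ
  have hne' : s ≠ t := fun h => htJ (h ▸ hsJ)
  set L := insert t J with hL
  have hLS : L ⊆ P.S := Set.insert_subset htS hJS
  by_cases hLe : L = P.S
  · -- a star
    have hadj : ∀ u ∈ J, u * t * u⁻¹ * t⁻¹ ∉ P.B := by
      intro u hu hc
      obtain ⟨u', hu', v, hvS, hv, huv⟩ := hirr {u} (Set.singleton_subset_iff.2 (hJS hu)) (Set.singleton_nonempty u)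
        (fun h => by
          have h1 : t ∈ ({u} : Set K) := by rw [h]; exact htS
          exact htJ ((Set.mem_singleton_iff.1 h1) ▸ hu))
      rw [Set.mem_singleton_iff] at hu' hv
      subst hu'
      have h1 : v ∈ L := by rw [hLe]; exact hvS
      rcases h1 with rfl | h1
      · exact huv hc
      · exact huv (hcommJ u' hu v h1 fun h => hv h.symm)
    have hLmem : ∀ u ∈ P.S, u ≠ t → u ∈ J := by
      intro u hu hut
      rw [← hLe] at hu
      exact hu.resolve_left hut
    obtain ⟨u, huS, hut, hu⟩ := hstar t htS ⟨s, hsS, hne'⟩ fun u hu hut =>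
      ⟨hadj u (hLmem u hu hut), isSolvable_of_le (parabolic_mono P (Set.singleton_subset_iff.2 (hLmem u hu hut))) hMsol⟩
    have huJ := hLmem u huS hut
    obtain ⟨k, hk, h1⟩ := descend P hyp hJS huJ hg hm hzs (fun v hv hvu => hcommJ u huJ v hv (Ne.symm hvu)) hu
    rw [hy, cx_cx] at h1
    have h2 := hmin (J \ {u}) ⟨Set.sdiff_subset.trans hJS, fun h => hJne (Set.Subset.antisymm hJS (h ▸ Set.sdiff_subset)),
      g * k, h1⟩
    have h3 : (J \ {u}).ncard < J.ncard := Set.ncard_sdiff_singleton_lt_of_mem huJ (Set.toFinite _)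
    omega
  · -- a larger proper parabolic subgroup
    obtain ⟨L', hL', hLe', -, hc⟩ := radIn_sup P hBs hLS
    have hsL : s ∉ L' := fun h1 => hst (hc s h1 t (Set.mem_insert _ _) hne')
    have htL : t ∉ L' := fun h1 => by
      have h2 := hc t h1 s (Set.mem_insert_of_mem _ hsJ) hne'.symm
      apply hst
      have e : s * t * s⁻¹ * t⁻¹ = (t * s * t⁻¹ * s⁻¹)⁻¹ := by group
      rw [e]
      exact inv_mem h2
    have hL'J : L' ⊆ J \ {s} := by
      intro u hu
      refine ⟨(hL' hu).resolve_left fun h => htL (h ▸ hu), fun h => hsL ?_⟩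
      rw [Set.mem_singleton_iff] at h
      rwa [← h]
    have h1 : Iv y (P.parabolic L') := iv_of_sub P hyR (parabolic_ne_top P hLS hLe) hL'
      (hyL L (Set.subset_insert _ _) hLS) (by rw [← hLe']; exact le_sup_left)
    have h2 := hmin L' ⟨hL'.trans hLS, fun h => hJne (Set.Subset.antisymm hJS (by
      rw [← h]; exact hL'J.trans Set.sdiff_subset)), g, h1⟩
    have h3 : (J \ {s}).ncard < J.ncard := Set.ncard_sdiff_singleton_lt_of_mem hsJ (Set.toFinite _)
    have h4 := Set.ncard_le_ncard hL'J (Set.toFinite _)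
    omega

/-! ### Minimal parabolic subgroups -/

theorem trans_node {s : K} (hs : s ∈ P.S) : ∀ m ∈ P.parabolic {s}, m ∉ P.B → ∀ m' ∈ P.parabolic {s}, m' ∉ P.B →
    ∃ u ∈ P.B, ∃ b ∈ P.B, m' = u * m * b := by
  intro m hm hmB m' hm' hmB'
  rcases mem_parabolic_singleton P hs hm with h1 | ⟨b, hb, c, hc, rfl⟩
  · exact absurd h1 hmB
  rcases mem_parabolic_singleton P hs hm' with h2 | ⟨b', hb', c', hc', rfl⟩
  · exact absurd h2 hmB'
  refine ⟨b' * b⁻¹, mul_mem hb' (inv_mem hb), c⁻¹ * c', mul_mem (inv_mem hc) hc', ?_⟩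
  group

theorem max_node {s : K} (hs : s ∈ P.S) : ∀ L, P.B < L → L ≤ P.parabolic {s} → L = P.parabolic {s} :=
  ((exists_eq_parabolic_iff P (P.parabolic {s})).1 ⟨s, hs, rfl⟩).2

theorem sec_node {s : K} (hs : s ∈ P.S) (hsol : Group.IsSolvable (P.parabolic {s})) :
    ∃ V, Sec P.B (P.parabolic {s}) V :=
  exists_V (B_le_parabolic P _) (B_lt_parabolic P hs).ne (max_node P hs) hsol

/-- `|P_s : B| = r ^ a + 1` -/
theorem index_node {r : ℕ} [Fact r.Prime] {U : Subgroup K} (hUB : U ≤ P.B) (hUr : IsPGroup r U)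
    (hcov : ∀ b ∈ P.B, ∃ u ∈ U, u⁻¹ * b ∈ P.N) {s : K} (hs : s ∈ P.S) :
    ∃ a, P.B.relIndex (P.parabolic {s}) = r ^ a + 1 := by
  classical
  set M := P.parabolic {s} with hM
  have hBM : P.B ≤ M := B_le_parabolic P _
  have hsM : s ∈ M := mem_parabolic_self P s
  set Ω := M ⧸ P.B.subgroupOf M with hΩ
  let U' : Subgroup M := U.subgroupOf M
  set o : Ω := QuotientGroup.mk ⟨s, hsM⟩ with ho
  have hcos : ∀ w : Ω, w = QuotientGroup.mk 1 ∨ w ∈ MulAction.orbit U' o := by
    intro w
    obtain ⟨m, rfl⟩ := QuotientGroup.mk_surjective w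
    rcases mem_parabolic_singleton P hs m.2 with h1 | ⟨b, hb, c, hc, h1⟩
    · left
      rw [QuotientGroup.eq, mem_subgroupOf]
      show (m : K)⁻¹ * 1 ∈ P.B
      rw [mul_one]
      exact inv_mem h1
    · right
      obtain ⟨u, hu, huN⟩ := hcov b hb
      refine ⟨⟨⟨u, hBM (hUB hu)⟩, hu⟩, ?_⟩
      show (QuotientGroup.mk ((⟨u, hBM (hUB hu)⟩ : M) * ⟨s, hsM⟩) : Ω) = QuotientGroup.mk m
      rw [QuotientGroup.eq, mem_subgroupOf]
      show (u * s)⁻¹ * (m : K) ∈ P.B
      rw [h1]
      have e : (u * s)⁻¹ * (b * s * c) = (s⁻¹ * (u⁻¹ * b) * s) * c := by group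
      rw [e]
      refine mul_mem ?_ hc
      have h2 : u⁻¹ * b ∈ P.B ⊓ P.N := ⟨P.B.mul_mem (P.B.inv_mem (hUB hu)) hb, huN⟩
      have h3 := P.conj_mem s⁻¹ (P.N.inv_mem (P.subset hs)) _ h2
      rwa [inv_inv] at h3
  have h1n : (QuotientGroup.mk 1 : Ω) ∉ MulAction.orbit U' o := by
    rintro ⟨u, hu⟩
    have h2 : (QuotientGroup.mk (((u : U') : M) * ⟨s, hsM⟩) : Ω) = QuotientGroup.mk 1 := hu
    rw [eq_comm, QuotientGroup.eq, mem_subgroupOf] at h2
    have h3 : (1 : K)⁻¹ * (((u : U') : M) * s) ∈ P.B := h2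
    rw [inv_one, one_mul] at h3
    have h4 : s ∈ P.B := by
      have h5 : (((u : U') : M) : K) ∈ P.B := hUB u.2
      have := mul_mem (inv_mem h5) h3
      rwa [inv_mul_cancel_left] at this
    exact not_mem_B P hs h4
  have hcard : Nat.card Ω = Nat.card (MulAction.orbit U' o) + 1 := by
    have h2 : (MulAction.orbit U' o)ᶜ = {(QuotientGroup.mk 1 : Ω)} := by
      ext w
      constructor
      · intro hw
        exact (hcos w).resolve_right hw
      · rintro rfl
        exact h1n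
    have h3 := Set.ncard_add_ncard_compl (MulAction.orbit U' o)
    rw [h2, Set.ncard_singleton] at h3
    rw [← h3]
    rfl
  have hdvd : Nat.card (MulAction.orbit U' o) ∣ Nat.card U' := by
    rw [Nat.card_congr (MulAction.orbitEquivQuotientStabilizer U' o)]
    exact Subgroup.index_dvd_card _
  have hU' : IsPGroup r U' := hUr.comap_subtype
  obtain ⟨n, hn⟩ := IsPGroup.iff_card.1 hU'
  rw [hn, Nat.dvd_prime_pow Fact.out] at hdvd
  obtain ⟨a, -, ha⟩ := hdvd
  exact ⟨a, by rw [Subgroup.relIndex, Subgroup.index, hcard, ha]⟩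

/-- the numerical condition of `fixed_of_num` -/
theorem num_le_four {n p : ℕ} (hp : 5 ≤ p) (hn : n ≠ 0) (hn4 : n ≤ 4) :
    ∀ d, d ∣ n → n ≡ d [MOD p] → d = n := by
  intro d hd hmod
  have h1 := Nat.le_of_dvd (Nat.pos_of_ne_zero hn) hd
  have h2 := (Nat.ModEq.symm hmod)
  rw [Nat.modEq_iff_dvd' h1] at h2
  rcases Nat.eq_zero_or_pos (n - d) with h3 | h3
  · omega
  · have := Nat.le_of_dvd h3 h2
    omega

theorem num_sol_two {n p a l m : ℕ} (hpp : p.Prime) (hp : 5 ≤ p) (hl : l.Prime) (hn : n = 2 ^ a + 1) (hnl : n = l ^ m) :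
    ∀ d, d ∣ n → n ≡ d [MOD p] → d = n := by
  intro d hd hmod
  rcases Nat.eq_zero_or_pos a with rfl | ha
  · exact num_le_four hp (by omega) (by rw [hn]; norm_num) d hd hmod
  have h1 := Nat.le_of_dvd (by rw [hn]; exact Nat.succ_pos _) hd
  have h2 := (Nat.ModEq.symm hmod)
  rw [Nat.modEq_iff_dvd' h1] at h2
  rcases num_two hl ha.ne' (by rw [← hn, hnl]) with rfl | ⟨rfl, rfl⟩
  · rw [hnl, pow_one, Nat.dvd_prime hl] at hd
    rcases hd with rfl | rfl
    · exfalso
      rw [hn, Nat.add_sub_cancel] at h2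
      have h3 := (Nat.prime_dvd_prime_iff_eq hpp Nat.prime_two).1 (hpp.dvd_of_dvd_pow h2)
      omega
    · rw [hnl, pow_one]
  · rw [hnl] at hd h2 ⊢
    have h3 : d ∣ 3 ^ 2 := hd
    rw [Nat.dvd_prime_pow Nat.prime_three] at h3
    obtain ⟨i, hi, rfl⟩ := h3
    interval_cases i
    · exfalso
      norm_num at h2
      have h4 : p ∣ 2 ^ 3 := by norm_num; exact h2
      have h3 := (Nat.prime_dvd_prime_iff_eq hpp Nat.prime_two).1 (hpp.dvd_of_dvd_pow h4)
      omega
    · exfalso
      norm_num at h2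
      have h4 : p ∣ 2 * 3 := by norm_num; exact h2
      rcases hpp.dvd_mul.1 h4 with h5 | h5
      · have h3 := (Nat.prime_dvd_prime_iff_eq hpp Nat.prime_two).1 h5
        omega
      · have h3 := (Nat.prime_dvd_prime_iff_eq hpp Nat.prime_three).1 h5
        omega
    · rfl

/-- **A radical automorphism of prime order `p ≥ 5` fixing a proper parabolic subgroup is trivial.** -/
theorem nonell {r p : ℕ} [Fact r.Prime] [Fact p.Prime] (hp5 : 5 ≤ p) (U : Sylow r K)
    (hU : normalizer ((U : Subgroup K) : Set K) = P.B) (hcov : ∀ b ∈ P.B, ∃ u ∈ (U : Subgroup K), u⁻¹ * b ∈ P.N)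
    (hcore : P.B.normalCore = ⊥) {x : MulAut K} (h : RC x) (hxp : x ^ p = 1)
    (hBs : Group.IsSolvable P.B) (hirr : Irr P) (h2 : 2 ≤ P.S.ncard) (hrig : Rig P p) (hstar : Star P p)
    (hsmall : r ≠ 2 → P.S.ncard = 2 → ∀ s ∈ P.S, Group.IsSolvable (P.parabolic {s}) →
      P.B.relIndex (P.parabolic {s}) ≤ 4)
    {M₀ : Subgroup K} (hBM : P.B ≤ M₀) (hM₀ : M₀ ≠ ⊤) {g₀ : K} (hg₀ : Iv (cx x g₀) M₀) : x = 1 := by
  classical
  obtain ⟨J₀, hJ₀, rfl⟩ := Cfsg.Agent.S0311.result P M₀ hBM
  have hJne : J₀ ≠ P.S := by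
    rintro rfl
    exact hM₀ (by rw [← sup_closure_eq_top P]; rfl)
  obtain ⟨g, hg⟩ := exists_borel' P U hU h hxp hBs hirr hrig hstar hJ₀ hJne hg₀
  have hUB : (U : Subgroup K) ≤ P.B := by rw [← hU]; exact le_normalizer
  have hyp : ∀ g, (cx x g) ^ p = 1 := by
    intro g
    have e : cx x g = (MulAut.conj g)⁻¹ * x * ((MulAut.conj g)⁻¹)⁻¹ := by rw [inv_inv]; rfl
    rw [e, conj_pow, hxp, mul_one, mul_inv_cancel]
  have hrig' : ∀ g : K, Iv (cx x g) P.B → ∀ s ∈ P.S, Iv (cx x g) (P.parabolic {s}) := fun g hgB s hs =>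
    hrig _ hgB ⟨1, one_mem _, by rw [hyp, map_one]⟩ s hs
  have hne : ∀ s ∈ P.S, ({s} : Set K) ≠ P.S := by
    intro s hs he
    rw [← he, Set.ncard_singleton] at h2
    omega
  have hnode : ∀ g : K, Iv (cx x g) P.B → ∀ s ∈ P.S, Group.IsSolvable (P.parabolic {s}) →
      ∀ k ∈ P.parabolic {s}, k⁻¹ * cx x g k ∈ P.B := by
    intro g hgB s hs hsol
    have hyM := hrig' g hgB s hs
    rcases h2.eq_or_lt with h3 | h3
    · -- rank two
      obtain ⟨V, S⟩ := sec_node P hs hsol
      obtain ⟨a, ha⟩ := index_node P hUB U.isPGroup' hcov hs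
      refine fixed_of_num S (p := p) hgB hyM (hyp g) ?_
      by_cases hr : r = 2
      · obtain ⟨l, m, hl, hlm⟩ := exists_pow S (trans_node P hs) (B_le_parabolic P _)
        rw [hr] at ha
        exact num_sol_two Fact.out hp5 hl ha hlm
      · exact num_le_four hp5 (by rw [ha]; omega) (hsmall hr h3.symm s hs hsol)
    · -- a neighbour
      obtain ⟨s', hs', t, htS, ht, hst⟩ := hirr {s} (Set.singleton_subset_iff.2 hs) (Set.singleton_nonempty s) (hne s hs)
      rw [Set.mem_singleton_iff] at hs' ht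
      subst hs'
      have hLS : ({s', t} : Set K) ⊆ P.S := by
        rintro u (rfl | rfl)
        · exact hs
        · exact htS
      have hLne : ({s', t} : Set K) ≠ P.S := by
        intro he
        rw [← he, Set.ncard_pair (Ne.symm ht)] at h3
        omega
      obtain ⟨L', hL', hLe', -, hc⟩ := radIn_sup P hBs hLS
      have hsL : s' ∉ L' := fun h1 => hst (hc s' h1 t (Or.inr rfl) (Ne.symm ht))
      have htL : t ∉ L' := fun h1 => by
        have h2 := hc t h1 s' (Or.inl rfl) ht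
        apply hst
        have e : s' * t * s'⁻¹ * t⁻¹ = (t * s' * t⁻¹ * s'⁻¹)⁻¹ := by group
        rw [e]
        exact inv_mem h2
      have hL0 : L' = ∅ := by
        rw [Set.eq_empty_iff_forall_notMem]
        intro u hu
        rcases hL' hu with rfl | rfl
        · exact hsL hu
        · exact htL hu
      rw [hL0, parabolic_empty] at hLe'
      intro k hk
      have h4 := (h.cx g) _ (parabolic_ne_top P hLS hLne) (iv_parabolic P hgB (hrig' g hgB) hLS) k
        (parabolic_mono P (Set.singleton_subset_iff.2 (Or.inl rfl)) hk)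
      rw [← hLe']
      exact mem_sup_left h4
  have hall := all_fixed P (h.cx g) hBs (fun s hs => parabolic_ne_top P (Set.singleton_subset_iff.2 hs) (hne s hs))
    (fun g' hg' => by rw [cx_cx] at hg' ⊢; exact hrig' _ hg')
    (fun g' hg' => by rw [cx_cx] at hg' ⊢; exact hnode _ hg') hg
  have h1 := eq_one P hcore hall
  have h3 : x = MulAut.conj g * cx x g * (MulAut.conj g)⁻¹ := by
    unfold cx
    group
  rw [h3, h1, mul_one, mul_inv_cancel]

end Cfsg.Agent.H459.NonEll
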