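import Mathlib
import Cfsg.Agent.H459.RgdRad
import Cfsg.Agent.FixBN.LOAll

/-!
# Solvable minimal parabolic subgroups in odd characteristic (helper459, S3829)

* `psl2_not_solvable` : the group `PSL₂(F)` on the projective line is not solvable for `|F| ≥ 4`;
* `card_le_three` : a solvable minimal parabolic subgroup with a field node has `|F| ≤ 3`;
* `Small r K` : a solvable minimal overgroup `M` of the normaliser `B` of a Sylow `r`-subgroup has `|M : B| ≤ 4`;
* `small_of_good`, `small_of_lie` : it holds for the groups of Lie type of odd characteristic (not Ree).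
-/

set_option autoImplicit false
set_option linter.unusedSectionVars false

namespace Cfsg.Agent.H459.SmallNode

open Cfsg Subgroup Cfsg.Agent.H459.Gallery Cfsg.Agent.H459.SolNode Cfsg.Agent.H459.NonEll
open Cfsg.Agent.H459.Rad hiding tr
open Cfsg.Agent.Schreier.BNSch Cfsg.Agent.FixBN
open scoped commutatorElement

section PSL

variable {F : Type*} [Field F]

/-- the permutation `z ↦ t² z` -/
noncomputable def hh (t : F) : Equiv.Perm (Option F) := tr t * ni * tr t⁻¹ * ni * tr t * ni

theorem hh_none {t : F} (ht : t ≠ 0) : hh t (none : Option F) = none := by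
  show tr t (ni (tr t⁻¹ (ni (tr t (ni (none : Option F)))))) = none
  rw [ni_none, tr_some, zero_add, ni_some ht, tr_some, neg_add_cancel, ni_zero, tr_none]

theorem hh_some {t : F} (ht : t ≠ 0) (z : F) : hh t (some z : Option F) = some (t ^ 2 * z) := by
  show tr t (ni (tr t⁻¹ (ni (tr t (ni (some z : Option F)))))) = some (t ^ 2 * z)
  by_cases hz : z = 0
  · subst hz
    rw [ni_zero, tr_none, ni_none, tr_some, zero_add, ni_some (inv_ne_zero ht), tr_some, inv_inv, neg_add_cancel,
      mul_zero]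
  · rw [ni_some hz, tr_some]
    by_cases h1 : -z⁻¹ + t = 0
    · rw [h1, ni_zero, tr_none, ni_none, tr_some, zero_add]
      have h2 : t = z⁻¹ := by linear_combination h1
      rw [h2]
      congr 1
      field_simp
    · rw [ni_some h1, tr_some]
      have h2 : t * z - 1 ≠ 0 := by
        intro h3
        apply h1
        field_simp
        linear_combination h3
      have h3 : -(-z⁻¹ + t)⁻¹ + t⁻¹ = -(t * (t * z - 1))⁻¹ := by
        have h4 : (-z⁻¹ + t)⁻¹ = z / (t * z - 1) := by
          rw [inv_eq_iff_eq_inv, inv_div]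
          field_simp
          ring
        rw [h4]
        obtain ⟨u, hu⟩ : ∃ u, t * z - 1 = u := ⟨_, rfl⟩
        rw [hu] at h2 ⊢
        have h5 : z = (u + 1) / t := by
          rw [← hu]
          field_simp
          ring
        rw [h5]
        field_simp
        ring
      rw [h3, ni_some (neg_ne_zero.2 (inv_ne_zero (mul_ne_zero ht h2))), tr_some]
      congr 1
      rw [inv_neg, inv_inv, neg_neg]
      ring

theorem hh_mem (t : F) : hh t ∈ psl2 F :=
  mul_mem (mul_mem (mul_mem (mul_mem (mul_mem (tr_mem _) ni_mem) (tr_mem _)) ni_mem) (tr_mem _)) ni_mem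

theorem hh_tr {t : F} (ht : t ≠ 0) (a : F) : hh t * tr a * (hh t)⁻¹ = tr (t ^ 2 * a) := by
  rw [mul_inv_eq_iff_eq_mul]
  apply Equiv.ext
  rintro (_ | z)
  · show hh t (tr a (none : Option F)) = tr (t ^ 2 * a) (hh t (none : Option F))
    rw [tr_none, hh_none ht, tr_none]
  · show hh t (tr a (some z : Option F)) = tr (t ^ 2 * a) (hh t (some z : Option F))
    rw [tr_some, hh_some ht, hh_some ht, tr_some]
    congr 1
    ring

/-- `PSL₂(F)` is perfect if some square is not `0, 1` -/
theorem psl2_perfect {t : F} (ht : t ≠ 0) (ht2 : t ^ 2 ≠ 1) : ⁅psl2 F, psl2 F⁆ = psl2 F := by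
  refine le_antisymm (Subgroup.commutator_le_self _) ?_
  have h1 : ∀ a : F, tr a ∈ ⁅psl2 F, psl2 F⁆ := by
    intro a
    have h2 : t ^ 2 - 1 ≠ 0 := sub_ne_zero.2 ht2
    have h3 : tr a = ⁅hh t, tr (a / (t ^ 2 - 1))⁆ := by
      rw [commutatorElement_def, hh_tr ht, inv_tr, tr_mul]
      congr 1
      field_simp
      ring
    rw [h3]
    exact Subgroup.commutator_mem_commutator (hh_mem t) (tr_mem _)
  have h2 : ∀ g ∈ psl2 F, ∀ a ∈ ⁅psl2 F, psl2 F⁆, g * a * g⁻¹ ∈ ⁅psl2 F, psl2 F⁆ := by
    intro g hg a ha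
    have h3 : g * a * g⁻¹ = ⁅g, a⁆ * a := by rw [commutatorElement_def]; group
    rw [h3]
    exact mul_mem (Subgroup.commutator_mem_commutator hg (Subgroup.commutator_le_self _ ha)) ha
  unfold psl2
  rw [closure_le]
  rintro g (⟨a, rfl⟩ | hg)
  · exact h1 a
  · rw [Set.mem_singleton_iff] at hg
    rw [hg]
    show (ni : Equiv.Perm (Option F)) ∈ ⁅psl2 F, psl2 F⁆
    rw [ni_eq]
    exact mul_mem (mul_mem (h1 1) (h2 _ ni_mem _ (h1 1))) (h1 1)

theorem psl2_not_solvable {t : F} (ht : t ≠ 0) (ht2 : t ^ 2 ≠ 1) : ¬ Group.IsSolvable ↥(psl2 F) := by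
  intro hs
  have h1 : Group.IsPerfect ↥(psl2 F) := Subgroup.isPerfect_iff.mpr (psl2_perfect ht ht2)
  have h2 : Nontrivial ↥(psl2 F) := by
    refine ⟨⟨⟨ni, ni_mem⟩, 1, fun h => ?_⟩⟩
    have h3 : (ni : Equiv.Perm (Option F)) = 1 := congrArg Subtype.val h
    have h4 : ni (none : Option F) = (1 : Equiv.Perm (Option F)) none := by rw [h3]
    rw [ni_none] at h4
    exact Option.some_ne_none _ h4
  exact Group.IsPerfect.not_isSolvable _ hs

theorem exists_sq_ne [Finite F] (h : 4 ≤ Nat.card F) : ∃ t : F, t ≠ 0 ∧ t ^ 2 ≠ 1 := by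
  classical
  by_contra hcon
  push Not at hcon
  have : Fintype F := Fintype.ofFinite F
  have h1 : (Finset.univ : Finset F) ⊆ {0, 1, -1} := by
    intro t _
    rw [Finset.mem_insert, Finset.mem_insert, Finset.mem_singleton]
    by_cases ht : t = 0
    · exact Or.inl ht
    · right
      have h2 : (t - 1) * (t + 1) = 0 := by linear_combination hcon t ht
      rcases mul_eq_zero.1 h2 with h3 | h3
      · exact Or.inl (sub_eq_zero.1 h3)
      · exact Or.inr (eq_neg_of_add_eq_zero_left h3)
  have h2 := Finset.card_le_card h1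
  have h3 : ({0, 1, -1} : Finset F).card ≤ 3 := Finset.card_le_three
  rw [Finset.card_univ, ← Nat.card_eq_fintype_card] at h2
  omega

end PSL

section Nodes

variable {K : Type*} [Group K] [Finite K] {P : BNPair K} {U V : Subgroup K} {s : K}

/-- the points of the panel -/
noncomputable def pnt {α : Type*} (P : BNPair K) (s : K) (x : α → K) : Option α → K ⧸ P.B
  | none => QuotientGroup.mk 1
  | some a => QuotientGroup.mk (x a * s)

theorem pnt_inj {α : Type*} (hs : s ∈ P.S) (hUB : U ≤ P.B) (hV : ∀ u ∈ U, s⁻¹ * u * s ∈ P.B → u ∈ V) {x : α → K}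
    (hxU : ∀ a, x a ∈ U) (hx : ∀ a b, (x a)⁻¹ * x b ∈ V → a = b) : Function.Injective (pnt P s x) := by
  have key : ∀ a, (QuotientGroup.mk 1 : K ⧸ P.B) ≠ QuotientGroup.mk (x a * s) := by
    intro a h
    rw [QuotientGroup.eq, inv_one, one_mul] at h
    have h1 := mul_mem (inv_mem (hUB (hxU a))) h
    rw [inv_mul_cancel_left] at h1
    exact not_mem_B P hs h1
  rintro (_ | a) (_ | b) h
  · rfl
  · exact absurd h (key b)
  · exact absurd h.symm (key a)
  · have h1 : (QuotientGroup.mk (x a * s) : K ⧸ P.B) = QuotientGroup.mk (x b * s) := h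
    rw [QuotientGroup.eq] at h1
    have h2 : s⁻¹ * ((x a)⁻¹ * x b) * s ∈ P.B := by
      have e : s⁻¹ * ((x a)⁻¹ * x b) * s = (x a * s)⁻¹ * (x b * s) := by group
      rw [e]; exact h1
    rw [hx a b (hV _ (mul_mem (inv_mem (hxU a)) (hxU b)) h2)]

/-- `|P_s : B| ≤ 1 + |α|` -/
theorem relIndex_le {α : Type*} [Finite α] (hs : s ∈ P.S) (hUB : U ≤ P.B) (hcov : ∀ b ∈ P.B, ∃ u ∈ U, u⁻¹ * b ∈ P.N)
    (hVs : ∀ v ∈ V, s⁻¹ * v * s ∈ P.B) {x : α → K} (hxU : ∀ a, x a ∈ U)
    (hx : ∀ u ∈ U, ∃ a, (x a)⁻¹ * u ∈ V) : P.B.relIndex (P.parabolic {s}) ≤ Nat.card α + 1 := by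
  classical
  set M' := P.parabolic {s} with hM
  have hBM : P.B ≤ M' := B_le_parabolic P _
  have hsM : s ∈ M' := mem_parabolic_self P _
  set Ω := M' ⧸ P.B.subgroupOf M' with hΩ
  let f : Option α → Ω := fun o => match o with
    | none => QuotientGroup.mk 1
    | some a => QuotientGroup.mk (⟨x a, hBM (hUB (hxU a))⟩ * ⟨s, hsM⟩)
  have hf : Function.Surjective f := by
    intro w
    obtain ⟨m, rfl⟩ := QuotientGroup.mk_surjective w
    rcases mem_parabolic_singleton P hs m.2 with h1 | ⟨b, hb, c, hc, h1⟩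
    · refine ⟨none, ?_⟩
      show (QuotientGroup.mk 1 : Ω) = QuotientGroup.mk m
      rw [eq_comm, QuotientGroup.eq, mem_subgroupOf]
      show (m : K)⁻¹ * 1 ∈ P.B
      rw [mul_one]
      exact inv_mem h1
    · obtain ⟨u, hu, huT⟩ := hcov b hb
      obtain ⟨a, hv⟩ := hx u hu
      refine ⟨some a, ?_⟩
      show (QuotientGroup.mk ((⟨x a, hBM (hUB (hxU a))⟩ : M') * ⟨s, hsM⟩) : Ω) = QuotientGroup.mk m
      rw [QuotientGroup.eq, mem_subgroupOf]
      show (x a * s)⁻¹ * (m : K) ∈ P.B
      rw [h1]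
      have e : (x a * s)⁻¹ * (b * s * c) = (s⁻¹ * ((x a)⁻¹ * u) * s) * (s⁻¹ * (u⁻¹ * b) * s) * c := by group
      rw [e]
      refine P.B.mul_mem (P.B.mul_mem (hVs _ hv) ?_) hc
      have h2 : u⁻¹ * b ∈ P.B ⊓ P.N := ⟨P.B.mul_mem (P.B.inv_mem (hUB hu)) hb, huT⟩
      have h3 := P.conj_mem s⁻¹ (P.N.inv_mem (P.subset hs)) _ h2
      rwa [inv_inv] at h3
  have h1 := Nat.card_le_card_of_surjective f hf
  rw [Subgroup.relIndex, Subgroup.index]
  refine h1.trans (le_of_eq ?_)
  exact Finite.card_option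

/-- `1 + |α| ≤ |P_s : B|` -/
theorem le_relIndex {α : Type*} [Finite α] (hs : s ∈ P.S) (hUB : U ≤ P.B)
    (hV : ∀ u ∈ U, s⁻¹ * u * s ∈ P.B → u ∈ V) {x : α → K}
    (hxU : ∀ a, x a ∈ U) (hx : ∀ a b, (x a)⁻¹ * x b ∈ V → a = b) :
    Nat.card α + 1 ≤ P.B.relIndex (P.parabolic {s}) := by
  classical
  set M' := P.parabolic {s} with hM
  have hBM : P.B ≤ M' := B_le_parabolic P _
  have hsM : s ∈ M' := mem_parabolic_self P _
  have hinj := pnt_inj (P := P) hs hUB hV hxU hx
  let f : Option α → M' ⧸ P.B.subgroupOf M' := fun o => match o with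
    | none => QuotientGroup.mk 1
    | some a => QuotientGroup.mk (⟨x a, hBM (hUB (hxU a))⟩ * ⟨s, hsM⟩)
  have hf : Function.Injective f := by
    intro a b hab
    apply hinj
    have h1 : ∀ m m' : M', (QuotientGroup.mk m : M' ⧸ P.B.subgroupOf M') = QuotientGroup.mk m' →
        (QuotientGroup.mk (m : K) : K ⧸ P.B) = QuotientGroup.mk (m' : K) := by
      intro m m' h
      rw [QuotientGroup.eq, mem_subgroupOf] at h
      rw [QuotientGroup.eq]
      exact h
    rcases a with _ | a <;> rcases b with _ | b <;> exact h1 _ _ hab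
  have h1 := Nat.card_le_card_of_injective f hf
  rw [Subgroup.relIndex, Subgroup.index]
  refine le_trans (le_of_eq ?_) h1
  exact Finite.card_option.symm

/-- a solvable minimal parabolic subgroup with a field node -/
theorem psl2_solvable {F : Type*} [Field F] (hs : s ∈ P.S) (hUB : U ≤ P.B) (Nd : Node P U s V)
    (N : FieldNode P U s V F) (hsol : Group.IsSolvable (P.parabolic {s})) : Group.IsSolvable ↥(psl2 F) := by
  classical
  have hinv : ∀ a, N.x (-a) = (N.x a)⁻¹ := N.x_neg
  have hφ : Function.Injective (pnt P s N.x) := pnt_inj hs hUB Nd.stab N.mem fun a b h => by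
    rw [← hinv, ← N.add] at h
    have h1 := N.ne _ h
    linear_combination -h1
  set φ := pnt P s N.x with hφd
  -- the graph
  let D : Subgroup (K × Equiv.Perm (Option F)) :=
    { carrier := {d | d.1 ∈ P.parabolic {s} ∧ ∀ z, d.1 • φ z = φ (d.2 z)}
      one_mem' := ⟨one_mem _, fun z => by
        show (1 : K) • φ z = φ z
        rw [one_smul]⟩
      mul_mem' := by
        rintro a b ⟨ha, ha'⟩ ⟨hb, hb'⟩
        refine ⟨mul_mem ha hb, fun z => ?_⟩
        show (a.1 * b.1) • φ z = φ (a.2 (b.2 z))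
        rw [mul_smul, hb', ha']
      inv_mem' := by
        rintro a ⟨ha, ha'⟩
        refine ⟨inv_mem ha, fun z => ?_⟩
        show a.1⁻¹ • φ z = φ (a.2⁻¹ z)
        rw [inv_smul_eq_iff, ha']
        exact congrArg φ (a.2.apply_symm_apply z).symm }
  have hDs : Group.IsSolvable D := by
    let f : D →* P.parabolic {s} :=
      { toFun := fun d => ⟨d.1.1, d.2.1⟩
        map_one' := rfl
        map_mul' := fun _ _ => rfl }
    have hf : Function.Injective f := by
      rw [injective_iff_map_eq_one]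
      rintro ⟨⟨k, g⟩, h1, h2⟩ h3
      have h4 : k = 1 := congrArg Subtype.val h3
      subst h4
      refine Subtype.ext (Prod.ext rfl ?_)
      apply Equiv.ext
      intro z
      apply hφ
      have := h2 z
      show φ (g z) = φ z
      rw [← this]
      show (1 : K) • φ z = φ z
      rw [one_smul]
    exact Group.isSolvable_of_isSolvable_injective hf
  let g : D →* Equiv.Perm (Option F) := (MonoidHom.snd _ _).comp D.subtype
  have htr : ∀ b, (N.x b, tr b) ∈ D := by
    intro b
    have hb : N.x b ∈ P.B := hUB (N.mem b)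
    refine ⟨B_le_parabolic P _ hb, ?_⟩
    rintro (_ | a)
    · show N.x b • (QuotientGroup.mk 1 : K ⧸ P.B) = φ (tr b (none : Option F))
      rw [tr_none]
      show (QuotientGroup.mk (N.x b * 1) : K ⧸ P.B) = QuotientGroup.mk 1
      rw [QuotientGroup.eq, mul_one, mul_one]
      exact inv_mem hb
    · show N.x b • (QuotientGroup.mk (N.x a * s) : K ⧸ P.B) = φ (tr b (some a : Option F))
      rw [tr_some]
      show (QuotientGroup.mk (N.x b * (N.x a * s)) : K ⧸ P.B) = QuotientGroup.mk (N.x (a + b) * s)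
      rw [add_comm, N.add, mul_assoc]
  have hni : (s, (ni : Equiv.Perm (Option F))) ∈ D := by
    refine ⟨mem_parabolic_self P _, ?_⟩
    rintro (_ | a)
    · show s • (QuotientGroup.mk 1 : K ⧸ P.B) = φ (ni (none : Option F))
      rw [ni_none]
      show (QuotientGroup.mk (s * 1) : K ⧸ P.B) = QuotientGroup.mk (N.x 0 * s)
      rw [N.x_zero, mul_one, one_mul]
    · show s • (QuotientGroup.mk (N.x a * s) : K ⧸ P.B) = φ (ni (some a : Option F))
      by_cases ha : a = 0
      · subst ha
        rw [ni_zero]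
        show (QuotientGroup.mk (s * (N.x 0 * s)) : K ⧸ P.B) = QuotientGroup.mk 1
        rw [N.x_zero, one_mul, QuotientGroup.eq, mul_one]
        exact inv_mem (P.sq_mem s hs)
      · rw [ni_some ha]
        show (QuotientGroup.mk (s * (N.x a * s)) : K ⧸ P.B) = QuotientGroup.mk (N.x (-a⁻¹) * s)
        rw [eq_comm, QuotientGroup.eq, ← mul_assoc s]
        exact N.inv a ha
  have hle : psl2 F ≤ g.range := by
    unfold psl2
    rw [closure_le]
    rintro k (⟨a, rfl⟩ | hk)
    · exact ⟨⟨_, htr a⟩, rfl⟩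
    · rw [Set.mem_singleton_iff] at hk
      rw [hk]
      exact ⟨⟨_, hni⟩, rfl⟩
  have hr : Group.IsSolvable ↥g.range := Group.isSolvable_of_surjective (f := g.rangeRestrict) g.rangeRestrict_surjective
  exact Group.isSolvable_of_isSolvable_injective (f := Subgroup.inclusion hle) (Subgroup.inclusion_injective hle)

/-- the field of a solvable field node has at most three elements -/
theorem relIndex_le_four_of_field {F : Type*} [Field F] [Finite F] (hs : s ∈ P.S) (hUB : U ≤ P.B)
    (hcov : ∀ b ∈ P.B, ∃ u ∈ U, u⁻¹ * b ∈ P.N) (Nd : Node P U s V)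
    (N : FieldNode P U s V F) (hsol : Group.IsSolvable (P.parabolic {s})) :
    P.B.relIndex (P.parabolic {s}) ≤ 4 := by
  have h1 := relIndex_le (P := P) (V := V) hs hUB hcov (fun v hv => hUB (Nd.le (Nd.conj_s v hv))) N.mem N.cover
  rcases Nat.lt_or_ge (Nat.card F) 4 with h2 | h2
  · omega
  · obtain ⟨t, ht, ht2⟩ := exists_sq_ne h2
    exact absurd (psl2_solvable hs hUB Nd N hsol) (psl2_not_solvable ht ht2)

theorem num_odd {r a m : ℕ} (hr : Odd r) (hr1 : 1 < r) (h : r ^ a + 1 = 2 ^ m) : a ≤ 1 := by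
  by_contra hcon
  have ha : 2 ≤ a := by omega
  have hm2 : 2 ≤ m := by
    by_contra hc
    have h1 : m ≤ 1 := by omega
    have h2 : (2 : ℕ) ^ m ≤ 2 ^ 1 := Nat.pow_le_pow_right (by norm_num) h1
    have h3 : r ≤ r ^ a := Nat.le_self_pow (by omega) r
    omega
  rcases Nat.even_or_odd a with ⟨k, hk⟩ | hao
  · -- `r ^ a ≡ 1 mod 4`
    have h1 : r ^ a % 4 = 1 := by
      rw [hk, ← two_mul, pow_mul, Nat.pow_mod]
      have h2 : r ^ 2 % 4 = 1 := by
        obtain ⟨c, rfl⟩ := hr
        have : (2 * c + 1) ^ 2 = 4 * (c * c + c) + 1 := by ring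
        rw [this]
        omega
      rw [h2, one_pow]
      norm_num
    have h3 : 4 ∣ 2 ^ m := by
      have := Nat.pow_dvd_pow 2 hm2
      simpa using this
    rw [← h] at h3
    omega
  · -- `(r ^ a + 1) / (r + 1)` is odd
    obtain ⟨k, hk⟩ := hao
    have h1 : ∃ c : ℕ, r ^ a + 1 = (r + 1) * c ∧ Odd c ∧ 1 < c := by
      have key : ∀ k : ℕ, ∃ c : ℕ, r ^ (2 * k + 1) + 1 = (r + 1) * c ∧ Odd c ∧ (0 < k → 1 < c) := by
        intro k
        induction k with
        | zero => exact ⟨1, by ring, odd_one, fun h => absurd h (lt_irrefl 0)⟩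
        | succ k ih =>
          obtain ⟨c, hc, hco, -⟩ := ih
          -- `r ^ (2 k + 3) + 1 = r ^ 2 (r ^ (2 k + 1) + 1) - (r ^ 2 - 1)`
          have hc0 : 0 < c := by
            rcases Nat.eq_zero_or_pos c with h | h
            · rw [h, mul_zero] at hc; omega
            · exact h
          obtain ⟨t, ht⟩ : ∃ t, r = t + 1 := ⟨r - 1, by omega⟩
          refine ⟨r ^ 2 * c - (r - 1), ?_, ?_, fun _ => ?_⟩
          · have h3 : r - 1 ≤ r ^ 2 * c := by
              have : r ≤ r ^ 2 * c := by
                have := Nat.le_self_pow (two_ne_zero) r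
                exact this.trans (Nat.le_mul_of_pos_right _ hc0)
              omega
            zify [h3, hr1.le]
            have hc' : (r : ℤ) ^ (2 * k + 1) + 1 = (r + 1) * c := by exact_mod_cast hc
            have e : (r : ℤ) ^ (2 * (k + 1) + 1) = r ^ 2 * r ^ (2 * k + 1) := by ring
            rw [e]
            linear_combination (r : ℤ) ^ 2 * hc'
          · have h3 : r - 1 ≤ r ^ 2 * c := by
              have : r ≤ r ^ 2 * c := by
                have := Nat.le_self_pow (two_ne_zero) r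
                exact this.trans (Nat.le_mul_of_pos_right _ hc0)
              omega
            refine (Nat.odd_sub h3).2 ?_
            have h4 : Odd (r ^ 2 * c) := (hr.pow).mul hco
            have h5 : Even (r - 1) := by
              obtain ⟨d, rfl⟩ := hr
              exact ⟨d, by omega⟩
            simp [h4, h5]
          · have h6 : r + 1 < r ^ 2 * c := by
              have h7 : r * 3 ≤ r * r := Nat.mul_le_mul_left r (by obtain ⟨d, rfl⟩ := hr; omega)
              have h8 : r ^ 2 ≤ r ^ 2 * c := Nat.le_mul_of_pos_right _ hc0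
              rw [pow_two] at h8 ⊢
              omega
            omega
      obtain ⟨c, hc, hco, hc1⟩ := key k
      exact ⟨c, by rw [hk]; exact hc, hco, hc1 (by omega)⟩
    obtain ⟨c, hc, hco, hc1⟩ := h1
    rw [h] at hc
    obtain ⟨j, -, hj⟩ := (Nat.dvd_prime_pow Nat.prime_two).1 (Dvd.intro_left _ hc.symm)
    rcases Nat.eq_zero_or_pos j with rfl | hj0
    · rw [pow_zero] at hj; omega
    · rw [hj] at hco
      exact absurd ((even_two).pow_of_ne_zero hj0.ne') (Nat.not_even_iff_odd.2 hco)

open Cfsg.Agent.FixBN.U3Model Cfsg.Agent.FixBN.UNode in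
/-- no solvable nodes of unitary type -/
theorem not_solvable_of_unode {r : ℕ} [Fact r.Prime] (hr2 : r ≠ 2) (hUr : IsPGroup r U) {F : Type*} [Field F]
    {σ : F →+* F} [Inv2 σ] (hF : UF σ) (hs : s ∈ P.S) (hUB : U ≤ P.B)
    (hcov : ∀ b ∈ P.B, ∃ u ∈ U, u⁻¹ * b ∈ P.N) (Nd : Node P U s V) (N : UNode P U s V σ) :
    ¬ Group.IsSolvable (P.parabolic {s}) := by
  intro hsol
  have hinj : ∀ a b, (N.x a)⁻¹ * N.x b ∈ V → a = b := by
    intro a b h
    rw [← N.x_inv, ← N.mul] at h
    exact inv_mul_eq_one.1 (N.ne _ h)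
  have hfin : Finite (Pt σ) := by
    refine Finite.of_injective (fun z : Pt σ => N.x z) ?_
    intro y z h
    have h' : N.x y = N.x z := h
    exact hinj y z (by rw [h', inv_mul_cancel]; exact one_mem _)
  have h1 := le_relIndex (P := P) hs hUB Nd.stab N.mem hinj
  obtain ⟨W, S⟩ := sec_node P hs hsol
  obtain ⟨l, m, hl, hlm⟩ := exists_pow S (trans_node P hs) (B_le_parabolic P _)
  obtain ⟨a, ha⟩ := index_node P hUB hUr hcov hs
  have hro : Odd r := (Fact.out : r.Prime).odd_of_ne_two hr2
  have hm0 : m ≠ 0 := by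
    rintro rfl
    rw [hlm, pow_zero] at ha
    have := Nat.pow_pos (n := a) (Fact.out : r.Prime).pos
    omega
  have hl2 : l = 2 := by
    have h3 : Even (r ^ a + 1) := hro.pow.add_one
    rw [← ha, hlm] at h3
    exact ((Nat.prime_dvd_prime_iff_eq Nat.prime_two hl).1 (Nat.prime_two.dvd_of_dvd_pow h3.two_dvd)).symm
  subst hl2
  have ha1 : a ≤ 1 := num_odd hro (Fact.out : r.Prime).one_lt (by rw [← ha, hlm])
  have hcard : Nat.card (Pt σ) ≤ r := by
    rw [ha] at h1
    have h3 : r ^ a ≤ r ^ 1 := Nat.pow_le_pow_right (Fact.out : r.Prime).pos ha1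
    rw [pow_one] at h3
    omega
  -- `Pt σ` is an `r`-group
  have hPr : IsPGroup r (Pt σ) := by
    intro z
    obtain ⟨k, hk⟩ := hUr ⟨N.x z, N.mem z⟩
    refine ⟨k, ?_⟩
    have hk' : N.x z ^ r ^ k = 1 := congrArg Subtype.val hk
    have h4 : ∀ j : ℕ, N.x (z ^ j) = N.x z ^ j := by
      intro j
      induction j with
      | zero => rw [pow_zero, pow_zero, N.x_one]
      | succ j ih => rw [pow_succ, pow_succ, N.mul, ih]
    have h5 : N.x (z ^ r ^ k) = N.x 1 := by rw [h4, hk', N.x_one]
    have h6 := hinj (z ^ r ^ k) 1 (by rw [h5, inv_mul_cancel]; exact one_mem _)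
    exact h6
  have hcomm : ∀ y z : Pt σ, y * z = z * y := by
    obtain ⟨j, hj⟩ := IsPGroup.iff_card.1 hPr
    have hj1 : j ≤ 1 := by
      by_contra hc
      have h4 : r ^ 2 ≤ r ^ j := Nat.pow_le_pow_right (Fact.out : r.Prime).pos (by omega)
      rw [← hj] at h4
      have h5 : r ^ 1 < r ^ 2 := Nat.pow_lt_pow_right (Fact.out : r.Prime).one_lt (by norm_num)
      rw [pow_one] at h5
      omega
    have hcyc : IsCyclic (Pt σ) := by
      interval_cases j
      · have h6 : Subsingleton (Pt σ) := (Nat.card_eq_one_iff_unique.1 (by rw [hj, pow_zero])).1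
        infer_instance
      · exact isCyclic_of_prime_card (p := r) (by rw [hj, pow_one])
    obtain ⟨g, hg⟩ := hcyc.exists_generator
    intro y z
    obtain ⟨i, rfl⟩ := hg y
    obtain ⟨j', rfl⟩ := hg z
    show g ^ i * g ^ j' = g ^ j' * g ^ i
    rw [← zpow_add, ← zpow_add, add_comm]
  obtain ⟨w, hw⟩ := hF.ne
  have h2 : (2 : F) ≠ 0 := hF.two
  let y : Pt σ := ⟨1, -(1 / 2), by
    rw [map_one, map_neg, map_div₀, map_one, map_ofNat]
    field_simp
    ring⟩
  let z : Pt σ := ⟨w, -(w * σ w / 2), by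
    rw [map_neg, map_div₀, map_mul, hF.invol, map_ofNat]
    field_simp
    ring⟩
  have h3 := congrArg Pt.b (hcomm y z)
  rw [mul_b, mul_b] at h3
  have h4 : σ (1 : F) * w = σ w * 1 := by
    have h5 : y.b + z.b - σ y.a * z.a = z.b + y.b - σ z.a * y.a := h3
    have h6 : σ y.a * z.a = σ z.a * y.a := by linear_combination -h5
    exact h6
  rw [map_one, one_mul, mul_one] at h4
  exact hw h4.symm

end Nodes

/-! ### The intrinsic condition -/

/-- a solvable minimal overgroup of the normaliser of a Sylow `r`-subgroup has index at most four -/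
def Small (r : ℕ) (K : Type*) [Group K] : Prop :=
  ∀ (U : Sylow r K) (M : Subgroup K), normalizer ((U : Subgroup K) : Set K) < M →
    (∀ L, normalizer ((U : Subgroup K) : Set K) < L → L ≤ M → L = M) → Group.IsSolvable M →
      (normalizer ((U : Subgroup K) : Set K)).relIndex M ≤ 4

theorem small_of_good {K : Type*} [Group K] [Finite K] {r : ℕ} [Fact r.Prime] (hr2 : r ≠ 2)
    (h : HasGoodSplit r K) : Small r K := by
  obtain ⟨P, U, -, S⟩ := h
  obtain ⟨U', hU'⟩ := RgdRad.exists_sylow S.toSplit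
  intro Q M hQM hmin hsol
  obtain ⟨g, hg⟩ := MulAction.exists_smul_eq K Q U'
  -- conjugate
  set M' := M.map (MulAut.conj g).toMonoidHom with hM'
  have hN : (normalizer ((Q : Subgroup K) : Set K)).map (MulAut.conj g).toMonoidHom = P.B := by
    have h1 : normalizer ((U' : Subgroup K) : Set K) = P.B := by rw [hU']; exact S.normalizer_eq
    rw [← h1, ← hg, Sylow.coe_subgroup_smul]
    exact Subgroup.map_equiv_normalizer_eq (Q : Subgroup K) (MulAut.conj g)
  have hPM : P.B < M' := by
    rw [← hN]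
    exact (Subgroup.map_lt_map_iff_of_injective (MulAut.conj g).injective).2 hQM
  have hminM' : ∀ L, P.B < L → L ≤ M' → L = M' := by
    intro L hL hLM
    set L' := L.map (MulAut.conj g⁻¹).toMonoidHom with hL'
    have e : L'.map (MulAut.conj g).toMonoidHom = L := by
      rw [hL', Subgroup.map_map]
      conv_rhs => rw [← Subgroup.map_id L]
      congr 1
      ext k
      simp [mul_assoc]
    have h1 : normalizer ((Q : Subgroup K) : Set K) < L' := by
      rw [← Subgroup.map_lt_map_iff_of_injective (f := (MulAut.conj g).toMonoidHom) (MulAut.conj g).injective, hN, e]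
      exact hL
    have h2 : L' ≤ M := by
      rw [← Subgroup.map_le_map_iff_of_injective (f := (MulAut.conj g).toMonoidHom) (MulAut.conj g).injective, e]
      exact hLM
    rw [← e, hmin L' h1 h2]
  have hsol' : Group.IsSolvable M' := Cfsg.Agent.SignalizersComponents.ComponentExists.isSolvable_map hsol _
  have hidx : (normalizer ((Q : Subgroup K) : Set K)).relIndex M = P.B.relIndex M' := by
    rw [← hN, hM']
    exact (Subgroup.relIndex_map_map_of_injective _ _ (MulAut.conj g).injective).symm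
  rw [hidx]
  obtain ⟨s, hs, hsM⟩ := (exists_eq_parabolic_iff P M').2 ⟨hPM, hminM'⟩
  rw [hsM] at hsol' ⊢
  obtain ⟨V, Nd, ⟨F, _, _, h2, ⟨N⟩⟩ | ⟨F, _, σ, _, hσ, ⟨N⟩⟩⟩ := S.good s hs
  · exact relIndex_le_four_of_field hs S.le S.cover Nd N hsol'
  · exfalso
    exact not_solvable_of_unode hr2 S.isP hσ hs S.le S.cover Nd N hsol'

theorem Small.congr {G K : Type*} [Group G] [Group K] [Finite G] [Finite K] {r : ℕ} [Fact r.Prime] (e : G ≃* K)
    (h : Small r K) : Small r G := by
  intro U M hUM hmin hsol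
  have hind : ((U : Subgroup G).map e.toMonoidHom).index = (U : Subgroup G).index :=
    Subgroup.index_map_of_bijective e.bijective _
  have hp1 : IsPGroup r ↥((U : Subgroup G).map e.toMonoidHom) := U.isPGroup'.map _
  let U' : Sylow r K := hp1.toSylow (by rw [hind]; exact U.not_dvd_index)
  have hU'c : (U' : Subgroup K) = (U : Subgroup G).map e.toMonoidHom := rfl
  have hN : (normalizer ((U : Subgroup G) : Set G)).map e.toMonoidHom = normalizer ((U' : Subgroup K) : Set K) := by
    rw [hU'c]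
    exact Subgroup.map_equiv_normalizer_eq (U : Subgroup G) e
  have h1 := h U' (M.map e.toMonoidHom) (by
    rw [← hN]
    exact (Subgroup.map_lt_map_iff_of_injective e.injective).2 hUM) (by
    intro L hL hLM
    set L' := L.map e.symm.toMonoidHom with hL'
    have e1 : L'.map e.toMonoidHom = L := by
      rw [hL', Subgroup.map_map]
      conv_rhs => rw [← Subgroup.map_id L]
      congr 1
      ext k
      simp
    have h1 : normalizer ((U : Subgroup G) : Set G) < L' := by
      rw [← Subgroup.map_lt_map_iff_of_injective (f := e.toMonoidHom) e.injective, hN, e1]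
      exact hL
    have h2 : L' ≤ M := by
      rw [← Subgroup.map_le_map_iff_of_injective (f := e.toMonoidHom) e.injective, e1]
      exact hLM
    rw [← e1, hmin L' h1 h2]) (Cfsg.Agent.SignalizersComponents.ComponentExists.isSolvable_map hsol _)
  rw [← hN] at h1
  rwa [Subgroup.relIndex_map_map_of_injective _ _ (f := e.toMonoidHom) e.injective] at h1

/-- **Odd characteristic.** -/
theorem small_of_lie {r : ℕ} [Fact r.Prime] (hr2 : r ≠ 2) {G : Type*} [Group G] [Finite G] [IsSimpleGroup G]
    (hG : IsLieTypeChar r G) (hnr : ¬ Lie.IsoRee G) : Small r G := by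
  rcases exists_good_model hr2 hG with ⟨K, _, _, _, _, h, ⟨e⟩⟩ | h
  · exact (small_of_good hr2 h).congr e
  · exact absurd h hnr

end Cfsg.Agent.H459.SmallNode
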